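import Cfsg.Agent.StdG.Basic
import Cfsg.Agent.Solv.Cores
import Cfsg.Agent.Bender.TwoRank
import Cfsg.Agent.S1173

/-!
# Standard subgroups with one class of involutions: no simple group has the product Sylow subgroup
-/

set_option autoImplicit false

namespace Cfsg.Lib.StdG

open Subgroup Cfsg.Lib.Gold Cfsg.Lib.Trans Cfsg.Lib.StdSz
open scoped commutatorElement

variable {G Ω : Type*} [Group G] [Group Ω]

namespace EndC

/-- The normalizer of a weakly closed subgroup controls fusion in its centralizer. -/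
theorem ctrl [Finite G] {H S W : Subgroup G} (hS : IsSylowIn 2 S H) (hW : W ≤ S)
    (wk : ∀ g ∈ H, cj g W ≤ S → cj g W = W) {d g : G} (hg : g ∈ H) (hd : d ∈ Cs W)
    (hgd : g * d * g⁻¹ ∈ Cs W) : ∃ n ∈ H, n ∈ Ns W ∧ n * d * n⁻¹ = g * d * g⁻¹ := by
  have : Fact (Nat.Prime 2) := ⟨Nat.prime_two⟩
  have h2 : IsPGroup 2 W := hS.isPGroup.to_le hW
  obtain ⟨R, hR, hWR⟩ := exists_isSylowIn_ge (H := H ⊓ C1 (g * d * g⁻¹)) h2
    (le_inf (hW.trans hS.le) fun w hw => StdSz.mem_C1.2 (StdSz.mem_Cs.1 hgd w hw).symm)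
  obtain ⟨c, hc, h3⟩ := hR.exists_cj_le (isPGroup_cj h2 g)
    (le_inf (cj_le_of_mem_of_le hg (hW.trans hS.le)) (cj_le_iff.2 fun w hw =>
      StdSz.mem_C1.2 (commute_conj (StdSz.mem_Cs.1 hd w hw).symm g)))
  obtain ⟨k, hk, h4⟩ := hS.exists_cj_le hR.isPGroup (hR.le.trans inf_le_left)
  have e1 := wk k hk ((cj_mono k hWR).trans h4)
  have e2 := wk (k * (c * g)) (mul_mem hk (mul_mem hc.1 hg)) (by
    rw [cj_mul, cj_mul]; exact (cj_mono k h3).trans h4)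
  rw [cj_mul] at e2
  refine ⟨c * g, mul_mem hc.1 hg, cj_eq_self_iff.1 (cj_inj.1 (e2.trans e1.symm)), ?_⟩
  calc c * g * d * (c * g)⁻¹ = c * (g * d * g⁻¹) * c⁻¹ := by group
    _ = _ := conj_eq_of_commute (StdSz.mem_C1.1 hc.2)

/-- One factor of the product. -/
structure PF (B T B' T' : Subgroup G) (z : G) : Prop where
  TB : T ≤ B
  two : IsPGroup 2 T
  cardT : Nat.card T = 64
  commB : ∀ a ∈ B, ∀ b ∈ B', Commute a b
  T'B' : T' ≤ B'
  disj : ∀ a ∈ T, a ∈ T' → a = 1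
  zT : z ∈ T
  z2 : z * z = 1
  z1 : z ≠ 1
  zc : z ∈ Cs T
  cent : ∀ a ∈ T, a ∈ Cs T → a = 1 ∨ a = z
  gen : T ≤ closure {a | a ∈ T ∧ a * a = 1}
  cls : ∀ a ∈ T, a * a = 1 → a ≠ 1 → ∃ g ∈ B, g * a * g⁻¹ = z
  perf : B ≤ ⁅B, B⁆
  zB : z ∉ Cs B

variable {B T B' T' : Subgroup G} {z z' : G}

namespace PF

section one

variable (h : PF B T B' T' z)
include h

theorem comm {a b : G} (ha : a ∈ T) (hb : b ∈ T') : Commute a b :=
  h.commB a (h.TB ha) b (h.T'B' hb)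

theorem le_Cs : T' ≤ Cs T := fun b hb => StdSz.mem_Cs.2 fun a ha => (h.comm ha hb).symm

theorem mem_S {x : G} : x ∈ T ⊔ T' ↔ ∃ a ∈ T, ∃ b ∈ T', a * b = x :=
  Solv.mem_sup_of_le_normalizer (h.le_Cs.trans (StdJ4.Cs_le_Ns T))

theorem eq_one {a b : G} (ha : a ∈ T) (hb : b ∈ T') (e : a * b = 1) : a = 1 ∧ b = 1 := by
  have h1 := h.disj a ha (eq_inv_of_mul_eq_one_left e ▸ inv_mem hb)
  exact ⟨h1, by simpa [h1] using e⟩

theorem right_eq_one {a b : G} (ha : a ∈ T) (hb : b ∈ T') (e : a * b ∈ T) : b = 1 :=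
  h.disj b ((mul_mem_cancel_left ha).1 e) hb

theorem sq {a b : G} (ha : a ∈ T) (hb : b ∈ T') : a * b * (a * b) = a * a * (b * b) :=
  (h.comm ha hb).symm.mul_mul_mul_comm a b ▸ rfl

theorem z_Cs : z ∈ Cs (T ⊔ T') := StdSz.mem_Cs.2 fun s hs => by
  obtain ⟨a, ha, b, hb, rfl⟩ := h.mem_S.1 hs
  exact (StdSz.mem_Cs.1 h.zc a ha).mul_right (h.comm h.zT hb)

end one

section two

variable [Finite G] (h : PF B T B' T' z) (h' : PF B' T' B T z')
include h h'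

omit [Finite G] in
theorem two_S : IsPGroup 2 (T ⊔ T' : Subgroup G) :=
  h.two.to_sup_of_normal_left' h'.two (h.le_Cs.trans (StdJ4.Cs_le_Ns T))

omit [Finite G] in
theorem cardS : Nat.card (T ⊔ T' : Subgroup G) = 2 ^ 12 := by
  rw [Solv.card_sup_of_disjoint_of_le_normalizer (h.le_Cs.trans (StdJ4.Cs_le_Ns T))
    (eq_bot_iff.2 fun a ha => h.disj a ha.1 ha.2), h.cardT, h'.cardT]
  norm_num

theorem not_prod {n : G} (hn : n ∈ Ns (T ⊔ T')) : n * z * n⁻¹ ≠ z * z' := fun e => by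
  have : Fact (Nat.Prime 2) := ⟨Nat.prime_two⟩
  have hz : ∀ {x : G}, x ∈ zpowers z → x = 1 ∨ x = z := fun hx =>
    h.cent _ (zpowers_le.2 h.zT hx) (zpowers_le.2 h.zc hx)
  obtain ⟨u, hu, u1, u2⟩ := Solv.PG.exists_not_mem_commutator_mem (S := T) (N := T)
    (H := zpowers z) h.two.isNilpotent le_rfl le_normalizer fun hle => by
      have := Subgroup.card_le_of_le hle
      rw [h.cardT, Nat.card_zpowers, orderOf_eq_prime (by rw [pow_two, h.z2]) h.z1] at this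
      omega
  have key : ∀ s ∈ T ⊔ T', ⁅n * u * n⁻¹, s⁆ = 1 ∨ ⁅n * u * n⁻¹, s⁆ = z * z' := fun s hs => by
    obtain ⟨a, ha, b, hb, e1⟩ := h.mem_S.1 (mem_normalizer_conj' hn hs)
    have e2 : ⁅n * u * n⁻¹, s⁆ = n * ⁅u, a⁆ * n⁻¹ := by
      rw [show s = n * (a * b) * n⁻¹ by rw [e1]; group, StdSz.conj_comm, commutatorElement_def,
        commutatorElement_def, mul_assoc (u * (a * b)), ← mul_inv_rev, mul_assoc a b u,
        ← (h.comm hu hb).eq]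
      group
    rcases hz (u2 a ha).1 with e3 | e3
    · exact Or.inl (by rw [e2, e3]; group)
    · exact Or.inr (by rw [e2, e3, e])
  obtain ⟨a, ha, b, hb, e1⟩ := h.mem_S.1 (mem_normalizer_conj hn (mem_sup_left hu))
  have k1 : ∀ s ∈ T, Commute (a * b) s := fun s hs => by
    have e2 : ⁅a * b, s⁆ = ⁅a, s⁆ := by
      rw [commutatorElement_def, commutatorElement_def, mul_assoc a, ← (h.comm hs hb).eq]; group
    rcases key s (mem_sup_left hs) with e3 | e3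
    · exact commutatorElement_eq_one_iff_commute.1 (e1 ▸ e3)
    · rw [← e1, e2] at e3
      exact absurd (h.right_eq_one h.zT h'.zT
        (e3 ▸ commutator_le_self T (commutator_mem_commutator ha hs))) h'.z1
  have k2 : ∀ s ∈ T', Commute (a * b) s := fun s hs => by
    have e2 : ⁅a * b, s⁆ = ⁅b, s⁆ := by
      rw [(h.comm ha hb).eq, commutatorElement_def, commutatorElement_def, mul_assoc b,
        (h.comm ha hs).eq]; group
    rcases key s (mem_sup_right hs) with e3 | e3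
    · exact commutatorElement_eq_one_iff_commute.1 (e1 ▸ e3)
    · rw [← e1, e2, (h.comm h.zT h'.zT).eq] at e3
      exact absurd (h'.right_eq_one h'.zT h.zT
        (e3 ▸ commutator_le_self T' (commutator_mem_commutator hb hs))) h.z1
  have k3 : u ∈ Cs T := StdSz.mem_Cs.2 fun s hs => by
    obtain ⟨a', ha', b', hb', e2⟩ := h.mem_S.1 (mem_normalizer_conj hn (mem_sup_left hs))
    have := commute_conj ((k1 a' ha').mul_right (k2 b' hb')) n⁻¹
    rw [e1, e2] at this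
    simpa [mul_assoc] using this
  rcases h.cent u hu k3 with rfl | rfl
  exacts [u1 (one_mem _), u1 (mem_zpowers _)]

variable {M : Subgroup G} (hS : IsSylowIn 2 (T ⊔ T') M)
include hS

theorem ctrlS {g d : G} (hg : g ∈ M) (hd : d ∈ Cs (T ⊔ T')) (hgd : g * d * g⁻¹ ∈ Cs (T ⊔ T')) :
    ∃ n ∈ M, n ∈ Ns (T ⊔ T') ∧ n * d * n⁻¹ = g * d * g⁻¹ :=
  ctrl hS le_rfl (fun k _ hk => Subgroup.eq_of_le_of_card_ge hk (card_cj k _).ge) hg hd hgd

theorem not_conj {g : G} (hg : g ∈ M) : g * z * g⁻¹ ≠ z' := fun e => by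
  have : Fact (Nat.Prime 2) := ⟨Nat.prime_two⟩
  have zc := h.z_Cs
  have zc' : z' ∈ Cs (T ⊔ T') := sup_comm T' T ▸ h'.z_Cs
  obtain ⟨n, n1, n2, n3⟩ := h.ctrlS h' hS hg zc (e ▸ zc')
  rw [e] at n3
  have zz : z ≠ z' := fun e => h.z1 (h.disj z h.zT (e ▸ h'.zT))
  have n4 : n * z' * n⁻¹ = z := by
    obtain ⟨a, ha, b, hb, e1⟩ := h.mem_S.1 (mem_normalizer_conj n2 (mem_sup_right h'.zT))
    have c1 : a * b ∈ Cs (T ⊔ T') := e1 ▸ mem_normalizer_conj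
      (normalizer_le_normalizer_centralizer _ n2) zc'
    have c2 : a ∈ Cs T := (mul_mem_cancel_right (h.le_Cs hb)).1 (StdJ4.Cs_anti le_sup_left c1)
    have c3 : b ∈ Cs T' := (mul_mem_cancel_left (h'.le_Cs ha)).1 (StdJ4.Cs_anti le_sup_right c1)
    rcases h.cent a ha c2 with rfl | rfl <;> rcases h'.cent b hb c3 with rfl | rfl
    · exact absurd (conj_eq_one_iff.1 (e1.symm.trans (one_mul 1))) h'.z1
    · exact absurd (mul_left_cancel (mul_right_cancel (n3.trans ((one_mul _).symm.trans e1)))) zz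
    · rw [← e1, mul_one]
    · exact absurd (e1.symm.trans (h.comm ha hb).eq) (h'.not_prod h (sup_comm T T' ▸ n2))
  obtain ⟨k, m, ⟨j, rfl⟩, e1⟩ := Nat.exists_eq_two_pow_mul_odd (orderOf_pos n).ne'
  have p1 : (n ^ (2 * j + 1)) ^ 2 ^ k = 1 := by rw [← pow_mul, mul_comm, ← e1, pow_orderOf_eq_one]
  have p2 : n ^ (2 * j + 1) ∈ T ⊔ T' := (hS.eq_of_le ((h.two_S h').to_sup_of_normal_left'
    (two_zpowers p1) (zpowers_le.2 (pow_mem n2 _))) le_sup_left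
    (sup_le hS.le (zpowers_le.2 (pow_mem n1 _)))).le (mem_sup_right (mem_zpowers _))
  have p3 : Commute (n ^ 2) z' := commute_of_conj_eq (by
    rw [pow_two, show n * n * z' * (n * n)⁻¹ = n * (n * z' * n⁻¹) * n⁻¹ by group, n4, n3])
  have p4 := conj_eq_of_commute (StdSz.mem_Cs.1 zc _ p2).symm
  rw [pow_succ, pow_mul, show (n ^ 2) ^ j * n * z * ((n ^ 2) ^ j * n)⁻¹ =
    (n ^ 2) ^ j * (n * z * n⁻¹) * ((n ^ 2) ^ j)⁻¹ by group, n3,
    conj_eq_of_commute (p3.pow_left j)] at p4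
  exact zz p4.symm

theorem not_conj_prod {g : G} (hg : g ∈ M) : g * z * g⁻¹ ≠ z * z' := fun e => by
  have zc := h.z_Cs
  have zc' : z' ∈ Cs (T ⊔ T') := sup_comm T' T ▸ h'.z_Cs
  obtain ⟨n, -, n2, n3⟩ := h.ctrlS h' hS hg zc (e ▸ mul_mem zc zc')
  exact h.not_prod h' n2 (n3.trans e)

variable (hB : B ≤ M) (hB' : B' ≤ M)
include hB hB'

/-- a conjugate of `z` in `T T'` lies in `T` -/
theorem conj_z_mem {g : G} (hg : g ∈ M) (e : g * z * g⁻¹ ∈ T ⊔ T') : g * z * g⁻¹ ∈ T := by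
  obtain ⟨a, ha, b, hb, e1⟩ := h.mem_S.1 e
  have e2 : a * a * (b * b) = 1 := by rw [← h.sq ha hb, e1, conj_sq, h.z2]; group
  obtain ⟨a2, b2⟩ := h.eq_one (mul_mem ha ha) (mul_mem hb hb) e2
  by_cases b1 : b = 1
  · rw [← e1, b1, mul_one]; exact ha
  exfalso
  obtain ⟨k, hk, k1⟩ := h'.cls b hb b2 b1
  have k2 : k * a * k⁻¹ = a := conj_eq_of_commute (h'.commB k hk a (h.TB ha))
  have e3 : k * g * z * (k * g)⁻¹ = a * z' := by
    rw [← k1, ← k2, show k * g * z * (k * g)⁻¹ = k * (g * z * g⁻¹) * k⁻¹ by group, ← e1]; group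
  by_cases a1 : a = 1
  · exact h.not_conj h' hS (mul_mem (hB' hk) hg) (by rw [e3, a1, one_mul])
  obtain ⟨l, hl, l1⟩ := h.cls a ha a2 a1
  have l2 : l * z' * l⁻¹ = z' := conj_eq_of_commute (h.commB l hl z' (h'.TB h'.zT))
  refine h.not_conj_prod h' hS (mul_mem (hB hl) (mul_mem (hB' hk) hg)) ?_
  rw [show l * (k * g) * z * (l * (k * g))⁻¹ = l * (k * g * z * (k * g)⁻¹) * l⁻¹ by group, e3]
  conv_rhs => rw [← l1, ← l2]
  group

theorem weak {g : G} (hg : g ∈ M) (e : cj g T ≤ T ⊔ T') : cj g T = T := by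
  refine Subgroup.eq_of_le_of_card_ge ?_ (card_cj g T).ge
  refine cj_le_iff_le_cj_inv.2 (h.gen.trans ((closure_le _).2 fun a ha => ?_))
  refine mem_cj_inv.2 ?_
  by_cases a1 : a = 1
  · rw [a1]; simpa using one_mem T
  obtain ⟨l, hl, l1⟩ := h.cls a ha.1 ha.2 a1
  have e1 : g * a * g⁻¹ = g * l⁻¹ * z * (g * l⁻¹)⁻¹ := by rw [← l1]; group
  rw [e1]
  exact h.conj_z_mem h' hS hB hB' (mul_mem hg (inv_mem (hB hl))) (e1 ▸ cj_le_iff.1 e a ha.1)

theorem no_z {x a g : G} (hx : x ∈ T) (ha : a ∈ T) (hg : g ∈ M) : g * x * g⁻¹ ≠ a * z' := fun e => by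
  have : Fact (Nat.Prime 2) := ⟨Nat.prime_two⟩
  have hS' : IsSylowIn 2 (T' ⊔ T) M := sup_comm T T' ▸ hS
  obtain ⟨n, n1, n2, n3⟩ := ctrl hS' le_sup_left (fun k hk e => h'.weak h hS' hB' hB hk e) hg
    (h'.le_Cs hx) (e ▸ mul_mem (h'.le_Cs ha) h'.zc)
  set L := M ⊓ Cs T' with hL
  have hN : M ⊓ Ns T' ≤ Ns L := fun y hy => cj_eq_self_iff.1 (by
    rw [hL, cj_inf, StdJ4.cj_Cs, cj_eq_of_mem hy.1, cj_eq_of_mem_normalizer hy.2])
  have hBL : B ≤ L := le_inf hB fun y hy => StdSz.mem_Cs.2 fun b hb => h.commB y hy b (h.T'B' hb)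
  have hT : T ≤ ⁅L, L⁆ := h.TB.trans (h.perf.trans (commutator_mono hBL hBL))
  have hn : n ∈ Ns ⁅L, L⁆ := cj_eq_self_iff.1 (by
    rw [cj_commutator, cj_eq_of_mem_normalizer (hN ⟨n1, n2⟩)])
  have hz : z' ∈ ⁅L, L⁆ := by
    have := mem_normalizer_conj hn (hT hx)
    rw [n3, e] at this
    exact (mul_mem_cancel_left (hT ha)).1 this
  have hR : IsSylowIn 2 ((T ⊔ T') ⊓ L) L :=
    (hS.mono (K := M ⊓ Ns T') (le_inf hS.le (sup_le (h'.le_Cs.trans (StdJ4.Cs_le_Ns T'))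
      le_normalizer)) inf_le_left).inf_normal_of_le hN
      (inf_le_inf_left M (StdJ4.Cs_le_Ns T'))
  have h1 := StdJ4.central_mem hR (z := z') ⟨mem_sup_right h'.zT, hB' (h'.TB h'.zT), h'.zc⟩
    (StdSz.mem_Cs.2 fun y hy => (StdSz.mem_Cs.1 hy.2 z' h'.zT).symm) hz
  have h2 : ⁅(T ⊔ T') ⊓ L, (T ⊔ T') ⊓ L⁆ ≤ T := commutator_le.2 fun u hu v hv => by
    obtain ⟨a1, ha1, b1, hb1, rfl⟩ := h.mem_S.1 hu.1
    obtain ⟨a2, ha2, b2, hb2, rfl⟩ := h.mem_S.1 hv.1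
    have c1 : b1 ∈ Cs T' := (mul_mem_cancel_left (h'.le_Cs ha1)).1 hu.2.2
    have c2 : Commute b1 (a2 * b2) := (h.comm ha2 hb1).symm.mul_right (StdSz.mem_Cs.1 c1 b2 hb2)
    have c3 : Commute a1 b2 := h.comm ha1 hb2
    have : ⁅a1 * b1, a2 * b2⁆ = ⁅a1, a2⁆ := by
      rw [commutatorElement_def, commutatorElement_def, mul_assoc a1 b1, c2.eq]
      calc a1 * (a2 * b2 * b1) * (a1 * b1)⁻¹ * (a2 * b2)⁻¹
          = a1 * a2 * (b2 * a1⁻¹ * b2⁻¹) * a2⁻¹ := by group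
        _ = _ := by rw [conj_eq_of_commute c3.inv_left.symm]
    rw [this]
    exact commutator_le_self T (commutator_mem_commutator ha1 ha2)
  exact h'.z1 (h.disj z' (h2 h1) h'.zT)

theorem strong (k : ℕ) : ∀ x ∈ T, x ^ 2 ^ k = 1 → ∀ g ∈ M, g * x * g⁻¹ ∈ T ⊔ T' →
    g * x * g⁻¹ ∈ T := by
  induction k with
  | zero =>
    intro x _ e g _ _
    rw [pow_zero, pow_one] at e
    rw [e]; simpa using one_mem T
  | succ k ih =>
    intro x hx e g hg hs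
    have h1 := ih (x * x) (mul_mem hx hx) (by rw [← pow_two, ← pow_mul, ← pow_succ', e]) g hg
      (conj_sq g x ▸ mul_mem hs hs)
    obtain ⟨a, ha, b, hb, e1⟩ := h.mem_S.1 hs
    rw [← conj_sq, ← e1, h.sq ha hb] at h1
    have b2 := h.right_eq_one (mul_mem ha ha) (mul_mem hb hb) h1
    by_cases b1 : b = 1
    · rw [← e1, b1, mul_one]; exact ha
    exfalso
    obtain ⟨l, hl, l1⟩ := h'.cls b hb b2 b1
    have l2 : l * a * l⁻¹ = a := conj_eq_of_commute (h'.commB l hl a (h.TB ha))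
    refine h.no_z h' hS hB hB' hx ha (mul_mem (hB' hl) hg) ?_
    rw [← l1, show l * g * x * (l * g)⁻¹ = l * (g * x * g⁻¹) * l⁻¹ by group, ← e1]
    conv_rhs => rw [← l2]
    group

theorem false [IsSimpleGroup M] : False := by
  have : Fact (Nat.Prime 2) := ⟨Nat.prime_two⟩
  have hTM : T ≤ M := h.TB.trans hB
  have hev : Even (Nat.card M) := even_iff_two_dvd.2
    (Dvd.dvd.trans (by rw [h.cardT]; norm_num) (card_dvd_of_le hTM))
  have h5 := Cfsg.Agent.S1173.result (Bender.oddCore_eq_bot_of_simple hev) hS.toSylow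
    (T.subgroupOf M) ⟨comap_mono le_sup_left, fun x hx g hg => by
      obtain ⟨k, hk⟩ := h.two ⟨x, hx⟩
      exact h.strong h' hS hB hB' k x hx (congrArg Subtype.val hk) g g.2 hg⟩
  rw [map_iInf_derivedSeries] at h5
  have h6 : B'.subgroupOf M ≤ pc (Cs (T.subgroupOf M)) := le_pc
    (fun a ha => StdSz.mem_Cs.2 fun c hc => Subtype.ext (h'.commB a ha c (h.TB hc)).eq) (by
      rw [← map_le_map_iff_of_injective M.subtype_injective, map_commutator,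
        subgroupOf_map_subtype, inf_of_le_left hB']
      exact h'.perf)
  rcases h5.eq_bot_or_eq_top with h7 | h7
  · exact h'.z1 (congrArg Subtype.val (h7.le (x := ⟨z', hB' (h'.TB h'.zT)⟩) (h6 (h'.TB h'.zT))))
  · refine h.zB (StdSz.mem_Cs.2 fun b hb => ?_)
    exact (congrArg Subtype.val (StdSz.mem_Cs.1 (pc_le (h7.ge (mem_top ⟨b, hB hb⟩)))
      ⟨z, hTM h.zT⟩ h.zT).eq).symm

end two

end PF

variable [Finite G] [Finite Ω] {Γ Γ0 T0 : Subgroup Ω} {z0 : Ω}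

theorem exists_half (b : Base Γ Γ0 T0 z0) {σ : G → Ω} (m : Mdl Γ Γ0 B σ) :
    ∃ (T : Subgroup G) (z : G), T ≤ B ∧ ∀ B' T' : Subgroup G, (∀ a ∈ B, ∀ b ∈ B', Commute a b) →
      T' ≤ B' → PF B T B' T' z := by
  have : Fact (Nat.Prime 2) := ⟨Nat.prime_two⟩
  have h2 : IsPGroup 2 T0 := IsPGroup.of_card (n := 6) b.cardT
  obtain ⟨T, hT, two, hc, mem, sur⟩ := m.lift_sub b.T0 h2
  obtain ⟨z, hz, z2, ez⟩ := m.lift_inv (b.T0 b.zT) b.z2
  have sq1 : ∀ {a : G}, a * a = 1 → a ^ 2 ^ 1 = 1 := fun e => by rw [pow_one, pow_two, e]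
  have pw : ∀ a ∈ T, ∃ k, a ^ 2 ^ k = 1 := fun a ha => ((mem a).1 ha).2.2
  have z1 : z ≠ 1 := fun e => b.z1 (by rw [← ez, e, m.one])
  have hzo : ∀ {x : Ω}, x ∈ zpowers z0 → x = 1 ∨ x = z0 := fun {x} hx => by
    obtain ⟨k, rfl⟩ := hx
    have h0 : z0 ^ (2 : ℤ) = 1 := by rw [zpow_two, b.z2]
    rcases Int.even_or_odd' k with ⟨j, rfl | rfl⟩
    · left; simp only [zpow_mul, h0, one_zpow]
    · right; simp only [zpow_add, zpow_mul, h0, one_zpow, one_mul, zpow_one]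
  refine ⟨T, z, hT, fun B' T' hB hT' => ⟨hT, two, hc.trans b.cardT, hB, hT', fun a ha ha' => ?_,
    (mem z).2 ⟨hz, ez ▸ b.zT, 1, sq1 z2⟩, z2, z1, StdSz.mem_Cs.2 fun a ha => ?_, fun a ha hc => ?_,
    fun a ha => ?_, fun a ha a2 a1 => m.cls b (hT ha) hz a2 z2 a1 z1, m.perf,
    fun e => z1 (m.eq_one hz (sq1 z2) e)⟩⟩
  · obtain ⟨k, hk⟩ := pw a ha
    exact m.eq_one (hT ha) hk (StdSz.mem_Cs.2 fun c hc => (hB c hc a (hT' ha')).symm)
  · obtain ⟨k, hk⟩ := pw a ha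
    exact m.comm_of (le_normalizer hz) (hT ha) hk
      (ez ▸ StdSz.mem_Cs.1 b.zc _ ((mem a).1 ha).2.1)
  · obtain ⟨k, hk⟩ := pw a ha
    have h1 : σ a ∈ Γ ⊓ Cs T0 := ⟨b.le (m.mem a (hT ha)), StdSz.mem_Cs.2 fun γ hγ => by
      obtain ⟨c, hc', rfl⟩ := sur γ hγ
      exact m.commute (le_normalizer (hT ha)) (le_normalizer (hT hc')) (StdSz.mem_Cs.1 hc c hc')⟩
    rcases hzo (b.centT h1) with e | e
    · exact Or.inl (m.eq_of_two (hT ha) (one_mem _) hk (l := 0) (one_pow _) (e.trans m.one.symm))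
    · exact Or.inr (m.eq_of_two (hT ha) hz hk (sq1 z2) (e.trans ez.symm))
  · have key : ∀ γ ∈ closure {a | a ∈ T0 ∧ a * a = 1},
        ∃ c ∈ T ⊓ closure {a | a ∈ T ∧ a * a = 1}, σ c = γ := fun γ hγ => by
      induction hγ using closure_induction with
      | mem γ hγ =>
        obtain ⟨c, hc, c2, rfl⟩ := m.lift_inv (b.T0 hγ.1) hγ.2
        have hcT := (mem c).2 ⟨hc, hγ.1, 1, sq1 c2⟩
        exact ⟨c, ⟨hcT, subset_closure ⟨hcT, c2⟩⟩, rfl⟩
      | one => exact ⟨1, one_mem _, m.one⟩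
      | mul x y _ _ hx hy =>
        obtain ⟨c, hc, rfl⟩ := hx
        obtain ⟨d, hd, rfl⟩ := hy
        exact ⟨c * d, mul_mem hc hd, m.mul c (le_normalizer (hT hc.1)) d (le_normalizer (hT hd.1))⟩
      | inv x _ hx =>
        obtain ⟨c, hc, rfl⟩ := hx
        exact ⟨c⁻¹, inv_mem hc, m.inv (le_normalizer (hT hc.1))⟩
    obtain ⟨c, hc, e⟩ := key _ (b.genT ((mem a).1 ha).2.1)
    obtain ⟨k, hk⟩ := pw a ha
    obtain ⟨l, hl⟩ := pw c hc.1
    exact m.eq_of_two (hT hc.1) (hT ha) hl hk e ▸ hc.2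

end EndC

variable [Finite G] [Finite Ω] {Γ Γ0 T : Subgroup Ω} {z : Ω}

/-- a simple group has no such Sylow 2-subgroup -/
theorem prod_false (b : Base Γ Γ0 T z) {B B' : Subgroup G} {σ σ' : G → Ω} (m : Mdl Γ Γ0 B σ)
    (m' : Mdl Γ Γ0 B' σ') (hc : B ≤ Cs B') {X : Subgroup G} [IsSimpleGroup X] (h1 : B ≤ X)
    (h2 : B' ≤ X) (hQ : ∀ Q ≤ X, IsPGroup 2 Q → Nat.card Q ≤ 2 ^ 12) : False := by
  have : Fact (Nat.Prime 2) := ⟨Nat.prime_two⟩
  obtain ⟨T1, z1, t1, p1⟩ := EndC.exists_half b m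
  obtain ⟨T2, z2, t2, p2⟩ := EndC.exists_half b m'
  have h := p1 B' T2 (fun a ha => StdSz.mem_Cs.1 (hc ha)) t2
  have h' := p2 B T1 (fun a ha c hc' => (StdSz.mem_Cs.1 (hc hc') a ha).symm) t1
  have hle : T1 ⊔ T2 ≤ X := sup_le (t1.trans h1) (t2.trans h2)
  obtain ⟨R, hR⟩ := exists_isSylowIn (p := 2) X
  exact h.false h' (hR.of_card_ge (h.two_S h') hle
    ((hQ R hR.le hR.isPGroup).trans (h.cardS h').ge)) h1 h2

end Cfsg.Lib.StdG
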