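import Cfsg.Agent.StdG.EpsF
import Cfsg.Agent.StdG.G29
import Cfsg.Agent.S3102
import Cfsg.Agent.S3100
import Cfsg.Agent.G2T.G2Syl
import Cfsg.Agent.Class.Four.Tools
import Cfsg.Agent.Spor.J2Main

/-!
# Standard subgroups of type `G₂(3)`: identification when `ε ∉ F0`
-/

set_option autoImplicit false

namespace Cfsg.Lib.StdG

open Subgroup Cfsg.Lib.Trans Cfsg.Lib.StdSz
open Cfsg.Lib.Gold hiding mem_Cs mem_C1
open scoped commutatorElement

variable {G K : Type*} [Group G] [Group K] {φ : S4 →* K} {t y : K} {S : Subgroup K} {q : K →* G}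

theorem card_F0 : Nat.card F0 = 4 := by rw [Nat.card_eq_fintype_card]; decide +kernel

theorem card_V0 : Nat.card V0 = 8 := by rw [Nat.card_eq_fintype_card]; decide +kernel

theorem cen_SM : ∀ w : GCore.SM 1, w * G2T.GM.A 1 0 = G2T.GM.A 1 0 * w → w * G2T.GM.s = G2T.GM.s * w →
    w * G2T.GM.sg = G2T.GM.sg * w → w = 1 ∨ w = GCore.zz 1 := by decide +kernel

theorem PG.ident (P : PG φ t y S) (e : Em φ t q) [Finite G] {X : Subgroup G} [X.Normal]
    [IsSimpleGroup X] (hS : ∀ k ∈ S, q k ∈ X) (h13 : 13 ∣ Nat.card X)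
    (cls : ∀ f ∈ F0, f ≠ 1 → ∃ g ∈ X, g * q (φ z0) * g⁻¹ = q (φ f))
    (hs : Group.IsSolvable ↥(C1 (q t) ⊓ C1 (q (φ z0)))) :
    ∃ (K : Type) (_ : Field K) (_ : Fintype K), Fintype.card K = 9 ∧
      Nonempty (X ≃* Lie.chevG2.group K) := by
  have : Finite K := Finite.of_injective _ e.inj
  have φX : ∀ x, q (φ x) ∈ X := fun x => hS _ (P.φS x)
  have qi : Function.Injective (q.comp φ) := e.inj.comp P.inj
  have nab : ¬ IsMulCommutative X := fun h => absurd (qi (a₁ := a0 * c0) (a₂ := c0 * a0) (by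
    rw [map_mul, map_mul]
    exact congrArg Subtype.val (h.1.1 ⟨_, φX a0⟩ ⟨_, φX c0⟩))) (by decide)
  have tX : q t ∉ X := fun h => P.not_mem e (by
    rcases (inferInstance : ((commutator G).subgroupOf X).Normal).eq_bot_or_eq_top with h1 | h1
    · exact absurd ⟨⟨fun a b => commutatorElement_eq_one_iff_mul_comm.1 (mem_bot.1 (h1.le
        (commutator_mem_commutator (mem_top (a : G)) (mem_top (b : G)))))⟩⟩ nab
    · exact h1.ge (mem_top ⟨_, h⟩))
  have s1 : IsSylowIn 2 (q.range ⊓ X) X := (P.syl e).inf_normal_of_le (normalizer_eq_top X).ge le_top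
  obtain ⟨T, hT⟩ : ∃ T : Sylow 2 X, ∀ x, x ∈ (T : Subgroup X) ↔ (x : G) ∈ q.range :=
    ⟨s1.toSylow, fun x => ⟨fun h => h.1, fun h => ⟨h, x.2⟩⟩⟩
  let ι : T →* K := (MonoidHom.ofInjective e.inj).symm.toMonoidHom.comp
    ((X.subtype.comp (T : Subgroup X).subtype).codRestrict _ fun x => (hT x).1 x.2)
  have qι : ∀ x, q (ι x) = x := fun x => MonoidHom.apply_ofInjective_symm e.inj _
  have ιi : Function.Injective ι := fun a b h => Subtype.ext (Subtype.ext (by rw [← qι, h, qι]))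
  have ιs : ∀ k, q k ∈ X → ∃ x, ι x = k := fun k hk =>
    ⟨⟨⟨_, hk⟩, (hT _).2 ⟨k, rfl⟩⟩, e.inj (qι _)⟩
  let j : S4 →* T := ((q.comp φ).codRestrict X φX).codRestrict _ fun x => (hT _).2 ⟨_, rfl⟩
  have ιj : ∀ x, ι (j x) = φ x := fun x => e.inj (qι _)
  have ji : Function.Injective j := fun a b h => P.inj (by rw [← ιj, h, ιj])
  have Un : (F0.map j).Normal := ⟨by
    rintro _ ⟨f, hf, rfl⟩ g
    rcases P.Fz (ι g) f hf with h | h
    · exact ⟨f, hf, ιi (by simpa [ιj] using h.symm)⟩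
    · exact ⟨f * z0, mul_mem hf (by decide), ιi (by simpa [ιj] using h.symm)⟩⟩
  have U4 : Nat.card (F0.map j) = 4 := by rw [card_map_of_injective ji, card_F0]
  have cT : 256 ≤ Nat.card T ∧ Nat.card T ≤ 512 := by
    rw [Nat.card_congr (MonoidHom.ofInjective ιi).toEquiv]
    refine ⟨P.low.trans (Trans.card_le_of_le fun k hk => ιs k (hS k hk)), ?_⟩
    have := Solv.PG.prime_mul_card_le_of_lt (P.two.to_subgroup ⊤) (lt_top_iff_ne_top.2
      (show ι.range ≠ ⊤ from fun h => by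
        obtain ⟨x, hx⟩ := h.ge (mem_top t)
        exact tX (by rw [← hx, qι]; exact x.1.2)))
    have := P.up
    rw [card_top] at *
    omega
  rcases Agent.S3102.result (X := X) (fun N hN h => by
      rcases hN.eq_bot_or_eq_top with rfl | rfl
      · rw [index_bot] at h; omega
      · simp at h) (fun z hz => by
      obtain ⟨g, a, b⟩ := Four.zstar nab (t := z) (by rw [← sq, ← hz.1, pow_orderOf_eq_one])
        (fun e => by simpa [e] using hz.1)
      exact a (hz.2 g (mem_centralizer_singleton_iff.1 b).symm)) T (fun h => by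
      have k : ∀ x ∈ V0, x * x = 1 := by decide
      have k2 : ∀ u ∈ V0.map j, u * u = 1 := by
        rintro _ ⟨x, hx, rfl⟩; rw [← map_mul, k x hx, map_one]
      have := h _ (Tl.comm_of_sq k2) (Tl.pow_two_of_sq k2)
      rw [card_map_of_injective ji, card_V0] at this
      omega) (fun E hE k h8 => by
      by_cases h : E ≤ F0.map j
      · have := Trans.card_le_of_le h; omega
      obtain ⟨x, h1, h2, -, h3⟩ := Solv.PG.exists_normal_step_elt T.isPGroup' h
      have k2 : ∀ g, q g ∈ X → ∃ f ∈ F0, ι x * g * (ι x)⁻¹ = g * φ f := fun g hg => by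
        obtain ⟨g, rfl⟩ := ιs g hg
        obtain ⟨f, hf, h4⟩ := Un.conj_mem _ (h3 g) g⁻¹
        exact ⟨f, hf, by rw [← ιj, h4]; simp [commutatorElement_def, mul_assoc]⟩
      obtain ⟨f, hf, h4 | h4⟩ := P.l2 (ι x) (by rw [← map_mul, ← sq, k.2 x h1, map_one])
        (fun s => k2 _ (φX s)) (k2 _ (hS _ P.yS))
      · exact h2 ⟨f, hf, ιi (by rw [ιj, h4])⟩
      · exact tX ((mul_mem_cancel_right (φX f)).1 (by rw [← map_mul, ← h4, qι]; exact x.1.2)))
      (F0.map j) ⟨U4, by
        have : Nontrivial (F0.map j) := Finite.one_lt_card_iff_nontrivial.1 (by omega)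
        have k : ∀ x ∈ F0, x * x = 1 := by decide
        refine (Monoid.exponent_eq_prime_iff Nat.prime_two).2 ?_
        rintro ⟨_, x, hx, rfl⟩ hg
        exact Tl.orderOf_eq_two (Subtype.ext (by
          change j x * j x = 1
          rw [← map_mul, k x hx, map_one])) hg⟩ Un (by
      have k : ∀ f ∈ F0, j f ≠ 1 → IsConj (j z0 : X) (j f) := fun f hf h => by
        obtain ⟨g, hg, h1⟩ := cls f hf fun e => h (by rw [e, map_one])
        exact isConj_iff.2 ⟨⟨g, hg⟩, Subtype.ext h1⟩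
      rintro _ ⟨u, hu, rfl⟩ _ ⟨v, hv, rfl⟩ h1 h2
      exact (k u hu h1).symm.trans (k v hv h2)) with ⟨F, _, _, hF, Q, ⟨f⟩⟩ | ⟨Q, ⟨f⟩⟩ | h
  · obtain ⟨m, ⟨E⟩⟩ := G2T.exists_emb_G2 (F := F) (Nat.odd_iff.2 (by omega))
    obtain ⟨E', hE⟩ := G2T.exists_emb_of_equiv (G2T.isPGroup_GM m) E T Q f
    obtain rfl : m = 1 := by
      rw [← hE, ← Nat.card_congr (MonoidHom.ofInjective E'.inj).toEquiv, G2T.GM.card,
        Nat.card_zmod] at cT
      rcases m with _ | _ | m
      · omega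
      · rfl
      · have : 16 ≤ 2 ^ (m + 1 + 1 + 2) := Nat.pow_le_pow_right (n := 2) two_pos (show 4 ≤ _ by omega)
        nlinarith [cT.2]
    obtain ⟨w, hw⟩ : (j z0 : X) ∈ E'.j.range := hE.ge (j z0).2
    have k : ∀ u, w * u = u * w := fun u => E'.inj (Subtype.ext (by
      obtain ⟨g, hg⟩ := (hT (E'.j u)).1 (hE.le ⟨u, rfl⟩)
      rw [map_mul, map_mul, hw, coe_mul, coe_mul, ← hg]
      exact ((P.zc g).map q).symm.eq))
    have hz : (E'.j (GCore.zz 1) : G) = q (φ z0) := by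
      rcases cen_SM w (k _) (k _) (k _) with rfl | rfl
      · exact absurd (e.inj (by
          rw [map_one] at hw ⊢; exact (congrArg Subtype.val hw).symm)) P.z1
      · exact congrArg Subtype.val hw
    have k1 : ∀ x, x * x = z0 → q (φ x) ∈ X ∧ Commute (q t) (q (φ x)) ∧
        q (φ x) * q (φ x) = E'.j (GCore.zz 1) := fun x h =>
      ⟨φX x, (P.tφ x).map q, by rw [← map_mul, ← map_mul, h, hz]⟩
    have k2 : ∀ x x', x * x' = x' * x → Commute (q (φ x)) (q (φ x')) := fun x x' h =>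
      Commute.map h (q.comp φ)
    refine g29 E' h13 (t := q t) (by rw [← map_mul, P.tt, map_one])
      (a := fun i => q (φ (cond i i1 i2))) (b := fun i => q (φ (cond i j1 j2)))
      (fun i => k1 _ (by cases i <;> decide)) (fun i => k1 _ (by cases i <;> decide))
      (fun i h => absurd (qi (a₁ := cond i i1 i2 * cond i j1 j2) (a₂ := cond i j1 j2 * cond i i1 i2)
        (by simpa using h)) (by cases i <;> decide)) (k2 _ _ (by decide)) (k2 _ _ (by decide))
      (hz ▸ hs)
  · have : Finite Spor.J2 := Nat.finite_of_card_ne_zero (by rw [Spor.J2.card_J2]; norm_num)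
    have h1 := Q.1.card_subgroup_dvd_card
    obtain ⟨n, hn⟩ := IsPGroup.iff_card.1 Q.isPGroup'
    rw [Nat.card_congr f.toEquiv, hn] at cT
    rw [hn, Spor.J2.card_J2] at h1
    have : 8 ≤ n := by
      by_contra h
      have : 2 ^ n ≤ 2 ^ 7 := Nat.pow_le_pow_right two_pos (by omega)
      omega
    exact absurd ((pow_dvd_pow 2 this).trans h1) (by norm_num)
  · obtain ⟨f⟩ := Agent.S3100.result nab T h
    rw [Nat.card_congr f.toEquiv, Spor.LyB.card_Ly] at h13
    exact absurd h13 (by norm_num)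

end Cfsg.Lib.StdG
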