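import Cfsg.Agent.StdG.CC
import Cfsg.Agent.SporChar.WFormAct

/-! Formulas for the finite checks on the model of `G₂(3):2`. -/

set_option autoImplicit false
set_option maxRecDepth 100000
set_option linter.unusedSimpArgs false

namespace Cfsg.Lib.StdG

open Cfsg.Lib.Spor Cfsg.Lib.Spor.Bulk Cfsg.Lib.Spor.WF

variable {Ω : Type*} [Group Ω] {S : ℕ → Subgroup Ω} {g : ℕ → Ω} {φ : S4 → Ω}

/-- the word of an element of `S4` -/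
def wd (x : S4) : List ℕ := cond x.f [14] [] ++ cond x.e [13] [] ++ List.replicate x.k.val 12 ++
  List.replicate x.i.val 11

/-- the value of `wd` -/
def pw (a b s c : Ω) (x : S4) : Ω := a ^ x.i.val * b ^ x.k.val * cond x.e s 1 * cond x.f c 1

theorem wv_rep (g : ℕ → Ω) (n l : ℕ) : wv g (List.replicate n l) = g l ^ n := by
  induction n with
  | zero => simp
  | succ n ih => rw [List.replicate_succ, wv_cons, ih, pow_succ]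

theorem wv_wd (g : ℕ → Ω) (x : S4) : wv g (wd x) = pw (g 11) (g 12) (g 13) (g 14) x := by
  obtain ⟨i, k, _ | _, _ | _⟩ := x <;> simp [wd, pw, wv_rep, mul_assoc]

/-- `S4` as a list -/
def lS : List S4 :=
  [⟨0, 0, false, false⟩, ⟨1, 0, false, false⟩, ⟨2, 0, false, false⟩, ⟨3, 0, false, false⟩,
  ⟨0, 1, false, false⟩, ⟨1, 1, false, false⟩, ⟨2, 1, false, false⟩, ⟨3, 1, false, false⟩,
  ⟨0, 2, false, false⟩, ⟨1, 2, false, false⟩, ⟨2, 2, false, false⟩, ⟨3, 2, false, false⟩,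
  ⟨0, 3, false, false⟩, ⟨1, 3, false, false⟩, ⟨2, 3, false, false⟩, ⟨3, 3, false, false⟩,
  ⟨0, 0, true, false⟩, ⟨1, 0, true, false⟩, ⟨2, 0, true, false⟩, ⟨3, 0, true, false⟩,
  ⟨0, 1, true, false⟩, ⟨1, 1, true, false⟩, ⟨2, 1, true, false⟩, ⟨3, 1, true, false⟩,
  ⟨0, 2, true, false⟩, ⟨1, 2, true, false⟩, ⟨2, 2, true, false⟩, ⟨3, 2, true, false⟩,
  ⟨0, 3, true, false⟩, ⟨1, 3, true, false⟩, ⟨2, 3, true, false⟩, ⟨3, 3, true, false⟩,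
  ⟨0, 0, false, true⟩, ⟨1, 0, false, true⟩, ⟨2, 0, false, true⟩, ⟨3, 0, false, true⟩,
  ⟨0, 1, false, true⟩, ⟨1, 1, false, true⟩, ⟨2, 1, false, true⟩, ⟨3, 1, false, true⟩,
  ⟨0, 2, false, true⟩, ⟨1, 2, false, true⟩, ⟨2, 2, false, true⟩, ⟨3, 2, false, true⟩,
  ⟨0, 3, false, true⟩, ⟨1, 3, false, true⟩, ⟨2, 3, false, true⟩, ⟨3, 3, false, true⟩,
  ⟨0, 0, true, true⟩, ⟨1, 0, true, true⟩, ⟨2, 0, true, true⟩, ⟨3, 0, true, true⟩,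
  ⟨0, 1, true, true⟩, ⟨1, 1, true, true⟩, ⟨2, 1, true, true⟩, ⟨3, 1, true, true⟩,
  ⟨0, 2, true, true⟩, ⟨1, 2, true, true⟩, ⟨2, 2, true, true⟩, ⟨3, 2, true, true⟩,
  ⟨0, 3, true, true⟩, ⟨1, 3, true, true⟩, ⟨2, 3, true, true⟩, ⟨3, 3, true, true⟩]

/-- the non-trivial elements as a list -/
def l1 : List S4 :=
  [⟨1, 0, false, false⟩, ⟨2, 0, false, false⟩, ⟨3, 0, false, false⟩, ⟨0, 1, false, false⟩,
  ⟨1, 1, false, false⟩, ⟨2, 1, false, false⟩, ⟨3, 1, false, false⟩, ⟨0, 2, false, false⟩,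
  ⟨1, 2, false, false⟩, ⟨2, 2, false, false⟩, ⟨3, 2, false, false⟩, ⟨0, 3, false, false⟩,
  ⟨1, 3, false, false⟩, ⟨2, 3, false, false⟩, ⟨3, 3, false, false⟩, ⟨0, 0, true, false⟩,
  ⟨1, 0, true, false⟩, ⟨2, 0, true, false⟩, ⟨3, 0, true, false⟩, ⟨0, 1, true, false⟩,
  ⟨1, 1, true, false⟩, ⟨2, 1, true, false⟩, ⟨3, 1, true, false⟩, ⟨0, 2, true, false⟩,
  ⟨1, 2, true, false⟩, ⟨2, 2, true, false⟩, ⟨3, 2, true, false⟩, ⟨0, 3, true, false⟩,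
  ⟨1, 3, true, false⟩, ⟨2, 3, true, false⟩, ⟨3, 3, true, false⟩, ⟨0, 0, false, true⟩,
  ⟨1, 0, false, true⟩, ⟨2, 0, false, true⟩, ⟨3, 0, false, true⟩, ⟨0, 1, false, true⟩,
  ⟨1, 1, false, true⟩, ⟨2, 1, false, true⟩, ⟨3, 1, false, true⟩, ⟨0, 2, false, true⟩,
  ⟨1, 2, false, true⟩, ⟨2, 2, false, true⟩, ⟨3, 2, false, true⟩, ⟨0, 3, false, true⟩,
  ⟨1, 3, false, true⟩, ⟨2, 3, false, true⟩, ⟨3, 3, false, true⟩, ⟨0, 0, true, true⟩,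
  ⟨1, 0, true, true⟩, ⟨2, 0, true, true⟩, ⟨3, 0, true, true⟩, ⟨0, 1, true, true⟩,
  ⟨1, 1, true, true⟩, ⟨2, 1, true, true⟩, ⟨3, 1, true, true⟩, ⟨0, 2, true, true⟩,
  ⟨1, 2, true, true⟩, ⟨2, 2, true, true⟩, ⟨3, 2, true, true⟩, ⟨0, 3, true, true⟩,
  ⟨1, 3, true, true⟩, ⟨2, 3, true, true⟩, ⟨3, 3, true, true⟩]

/-- `B0` as a list -/
def lB : List S4 :=
  [⟨0, 0, false, false⟩, ⟨2, 0, false, false⟩, ⟨1, 1, false, false⟩, ⟨3, 1, false, false⟩,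
  ⟨0, 2, false, false⟩, ⟨2, 2, false, false⟩, ⟨1, 3, false, false⟩, ⟨3, 3, false, false⟩,
  ⟨0, 0, true, false⟩, ⟨2, 0, true, false⟩, ⟨1, 1, true, false⟩, ⟨3, 1, true, false⟩,
  ⟨0, 2, true, false⟩, ⟨2, 2, true, false⟩, ⟨1, 3, true, false⟩, ⟨3, 3, true, false⟩,
  ⟨0, 0, false, true⟩, ⟨2, 0, false, true⟩, ⟨1, 1, false, true⟩, ⟨3, 1, false, true⟩,
  ⟨0, 2, false, true⟩, ⟨2, 2, false, true⟩, ⟨1, 3, false, true⟩, ⟨3, 3, false, true⟩,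
  ⟨0, 0, true, true⟩, ⟨2, 0, true, true⟩, ⟨1, 1, true, true⟩, ⟨3, 1, true, true⟩,
  ⟨0, 2, true, true⟩, ⟨2, 2, true, true⟩, ⟨1, 3, true, true⟩, ⟨3, 3, true, true⟩]

/-- `D0` as a list -/
def lD : List S4 :=
  [⟨0, 0, false, false⟩, ⟨1, 0, false, false⟩, ⟨2, 0, false, false⟩, ⟨3, 0, false, false⟩,
  ⟨0, 1, false, false⟩, ⟨1, 1, false, false⟩, ⟨2, 1, false, false⟩, ⟨3, 1, false, false⟩,
  ⟨0, 2, false, false⟩, ⟨1, 2, false, false⟩, ⟨2, 2, false, false⟩, ⟨3, 2, false, false⟩,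
  ⟨0, 3, false, false⟩, ⟨1, 3, false, false⟩, ⟨2, 3, false, false⟩, ⟨3, 3, false, false⟩,
  ⟨0, 0, false, true⟩, ⟨1, 0, false, true⟩, ⟨2, 0, false, true⟩, ⟨3, 0, false, true⟩,
  ⟨0, 1, false, true⟩, ⟨1, 1, false, true⟩, ⟨2, 1, false, true⟩, ⟨3, 1, false, true⟩,
  ⟨0, 2, false, true⟩, ⟨1, 2, false, true⟩, ⟨2, 2, false, true⟩, ⟨3, 2, false, true⟩,
  ⟨0, 3, false, true⟩, ⟨1, 3, false, true⟩, ⟨2, 3, false, true⟩, ⟨3, 3, false, true⟩]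

/-- `V0` as a list -/
def lV : List S4 :=
  [⟨0, 0, false, false⟩, ⟨2, 0, false, false⟩, ⟨0, 2, false, false⟩, ⟨2, 2, false, false⟩,
  ⟨0, 0, false, true⟩, ⟨2, 0, false, true⟩, ⟨0, 2, false, true⟩, ⟨2, 2, false, true⟩]

/-- involutions with conjugating words -/
def lC : List (S4 × List ℕ) :=
  [(⟨2, 0, false, false⟩, [15]), (⟨0, 2, false, false⟩, [15, 13]), (⟨2, 2, false, false⟩, []),
  (⟨0, 0, true, false⟩, [15, 16, 11]), (⟨3, 1, true, false⟩, [15, 16]),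
  (⟨2, 2, true, false⟩, [15, 16, 12]), (⟨1, 3, true, false⟩, [15, 13, 16]),
  (⟨0, 0, false, true⟩, [15, 16, 17]), (⟨1, 0, false, true⟩, [15, 16, 12, 18]),
  (⟨2, 0, false, true⟩, [15, 18, 12]), (⟨3, 0, false, true⟩, [15, 16, 11, 18]),
  (⟨0, 1, false, true⟩, [15, 16, 12, 18, 13]), (⟨1, 1, false, true⟩, [15, 16, 17, 17]),
  (⟨2, 1, false, true⟩, [15, 17, 11, 18, 15]), (⟨3, 1, false, true⟩, [15, 18, 16]),
  (⟨0, 2, false, true⟩, [15, 13, 18]), (⟨1, 2, false, true⟩, [15, 13, 17, 11, 18]),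
  (⟨2, 2, false, true⟩, [15, 18]), (⟨3, 2, false, true⟩, [15, 17, 11, 18]),
  (⟨0, 3, false, true⟩, [15, 16, 11, 18, 13]), (⟨1, 3, false, true⟩, [15, 16, 11, 17]),
  (⟨2, 3, false, true⟩, [15, 16, 18, 18, 18]), (⟨3, 3, false, true⟩, [15, 18, 17]),
  (⟨0, 0, true, true⟩, [15, 13, 17, 11]), (⟨1, 1, true, true⟩, [15, 17]),
  (⟨2, 2, true, true⟩, [15, 17, 11]), (⟨3, 3, true, true⟩, [15, 13, 17])]

theorem mem_lS : ∀ x, x ∈ lS ↔ True := by decide +kernel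
theorem mem_l1 : ∀ x, x ∈ l1 ↔ x ≠ 1 := by decide +kernel
theorem mem_lB : ∀ x, x ∈ lB ↔ x ∈ B0 := by decide +kernel
theorem mem_lD : ∀ x, x ∈ lD ↔ x ∈ D0 := by decide +kernel
theorem mem_lV : ∀ x, x ∈ lV ↔ x ∈ V0 := by decide +kernel
theorem lC_cov : ∀ x : S4, x * x = 1 → x ≠ 1 → ∃ p ∈ lC, p.1 = x ∧ ∀ l ∈ p.2, l ≠ 10 := by
  decide +kernel

/-- the multiplication table -/
def fHom : Fm := andL lS fun x => andL lS fun y => .eq (wd (x * y)) (wd y ++ wd x)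

theorem fHom_sem (h : fHom.sem S g) (x y : S4) : pw (g 11) (g 12) (g 13) (g 14) (x * y) =
    pw (g 11) (g 12) (g 13) (g 14) x * pw (g 11) (g 12) (g 13) (g 14) y := by
  simp only [fHom, sem_andL, Fm.sem, mem_lS, wv_append, wv_wd, forall_const] at h
  exact h x y

/-- a finite check -/
def fFinj : Fm :=
  (andL l1 fun x => .not (.eq (wd x) []))

theorem fFinj_sem (hφ : ∀ x, pw (g 11) (g 12) (g 13) (g 14) x = φ x) (h : fFinj.sem S g) :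
    ∀ x, x ≠ 1 → φ x ≠ 1 := by
  simp only [fFinj, Fm.sem, sem_andL, sem_orL, mem_lS, mem_l1, mem_lB, mem_lD, mem_lV, wv_append, wv_wd,
    wv_cons, wv_nil, one_mul, upd_apply, Nat.reduceEqDiff, ↓reduceIte, hφ, forall_const] at h
  exact h

/-- a finite check -/
def fFrD : Fm :=
  (andL lD fun x => .eq (wd x ++ [15]) (15 :: wd (ρr x)))

theorem fFrD_sem (hφ : ∀ x, pw (g 11) (g 12) (g 13) (g 14) x = φ x) (h : fFrD.sem S g) :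
    ∀ x ∈ D0, g 15 * φ x = φ (ρr x) * g 15 := by
  simp only [fFrD, Fm.sem, sem_andL, sem_orL, mem_lS, mem_l1, mem_lB, mem_lD, mem_lV, wv_append, wv_wd,
    wv_cons, wv_nil, one_mul, upd_apply, Nat.reduceEqDiff, ↓reduceIte, hφ, forall_const] at h
  exact h

/-- a finite check -/
def fFdB : Fm :=
  (andL lB fun x => .eq (wd x ++ [16]) (16 :: wd (δ1 x)))

theorem fFdB_sem (hφ : ∀ x, pw (g 11) (g 12) (g 13) (g 14) x = φ x) (h : fFdB.sem S g) :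
    ∀ x ∈ B0, g 16 * φ x = φ (δ1 x) * g 16 := by
  simp only [fFdB, Fm.sem, sem_andL, sem_orL, mem_lS, mem_l1, mem_lB, mem_lD, mem_lV, wv_append, wv_wd,
    wv_cons, wv_nil, one_mul, upd_apply, Nat.reduceEqDiff, ↓reduceIte, hφ, forall_const] at h
  exact h

/-- a finite check -/
def fFeB : Fm :=
  (andL lB fun x => .eq (wd x ++ [17]) (17 :: wd (δ2 x)))

theorem fFeB_sem (hφ : ∀ x, pw (g 11) (g 12) (g 13) (g 14) x = φ x) (h : fFeB.sem S g) :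
    ∀ x ∈ B0, g 17 * φ x = φ (δ2 x) * g 17 := by
  simp only [fFeB, Fm.sem, sem_andL, sem_orL, mem_lS, mem_l1, mem_lB, mem_lD, mem_lV, wv_append, wv_wd,
    wv_cons, wv_nil, one_mul, upd_apply, Nat.reduceEqDiff, ↓reduceIte, hφ, forall_const] at h
  exact h

/-- a finite check -/
def fFfV : Fm :=
  (andL lV fun x => .eq (wd x ++ [18]) (18 :: wd (δf x)))

theorem fFfV_sem (hφ : ∀ x, pw (g 11) (g 12) (g 13) (g 14) x = φ x) (h : fFfV.sem S g) :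
    ∀ x ∈ V0, g 18 * φ x = φ (δf x) * g 18 := by
  simp only [fFfV, Fm.sem, sem_andL, sem_orL, mem_lS, mem_l1, mem_lB, mem_lD, mem_lV, wv_append, wv_wd,
    wv_cons, wv_nil, one_mul, upd_apply, Nat.reduceEqDiff, ↓reduceIte, hφ, forall_const] at h
  exact h

/-- a finite check -/
def fFσS : Fm :=
  (andL lS fun x => .eq (wd x ++ [10]) (10 :: wd (ρσ x)))

theorem fFσS_sem (hφ : ∀ x, pw (g 11) (g 12) (g 13) (g 14) x = φ x) (h : fFσS.sem S g) :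
    ∀ x, g 10 * φ x = φ (ρσ x) * g 10 := by
  simp only [fFσS, Fm.sem, sem_andL, sem_orL, mem_lS, mem_l1, mem_lB, mem_lD, mem_lV, wv_append, wv_wd,
    wv_cons, wv_nil, one_mul, upd_apply, Nat.reduceEqDiff, ↓reduceIte, hφ, forall_const] at h
  exact h

/-- a finite check -/
def fFcl : Fm :=
  (andL lC fun p => .eq (19 :: p.2) (p.2 ++ wd p.1))

theorem fFcl_sem (hφ : ∀ x, pw (g 11) (g 12) (g 13) (g 14) x = φ x) (h : fFcl.sem S g) :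
    ∀ p ∈ lC, wv g p.2 * g 19 = φ p.1 * wv g p.2 := by
  simp only [fFcl, Fm.sem, sem_andL, sem_orL, mem_lS, mem_l1, mem_lB, mem_lD, mem_lV, wv_append, wv_wd,
    wv_cons, wv_nil, one_mul, upd_apply, Nat.reduceEqDiff, ↓reduceIte, hφ, forall_const] at h
  exact h

/-- a finite check -/
def fFlt : Fm :=
  (.and (.eq [11] (wd a0)) (.and (.eq [13] (wd s0)) (.and (.eq [14] (wd c0)) (.and (.eq [19] (wd
  z0)) (.and (.eq [20] (wd x0)) (.eq [21] (wd (a0 * c0))))))))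

theorem fFlt_sem (hφ : ∀ x, pw (g 11) (g 12) (g 13) (g 14) x = φ x) (h : fFlt.sem S g) :
    (g 11 = φ a0) ∧ (g 13 = φ s0) ∧ (g 14 = φ c0) ∧ (g 19 = φ z0) ∧ (g 20 = φ x0) ∧ (g 21 = φ (a0 *
    c0)) := by
  simp only [fFlt, Fm.sem, sem_andL, sem_orL, mem_lS, mem_l1, mem_lB, mem_lD, mem_lV, wv_append, wv_wd,
    wv_cons, wv_nil, one_mul, upd_apply, Nat.reduceEqDiff, ↓reduceIte, hφ, forall_const] at h
  exact h

/-- a finite check -/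
def fFeq : Fm :=
  (.and (.eq [15,15,15] []) (.and (.eq [16,16,16] []) (.and (.eq [17,17,17] []) (.and (.eq
  [18,18,18,18,18,18,18] []) (.and (.eq [15,13,15,13] []) (.and (.eq [10,10] []) (.and (.eq
  [15,10] [10,15]) (.and (.eq [18,10] [10,18]) (.and (.eq [19,11] [11,19]) (.and (.eq [19,16]
  [16,19]) (.and (.eq [19,17] [17,19]) (.eq [19,10] [10,19]))))))))))))

theorem fFeq_sem (hφ : ∀ x, pw (g 11) (g 12) (g 13) (g 14) x = φ x) (h : fFeq.sem S g) :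
    g 15 * g 15 * g 15 = 1 ∧ g 16 * g 16 * g 16 = 1 ∧ g 17 * g 17 * g 17 = 1 ∧ g 18 * g 18 * g 18 *
    g 18 * g 18 * g 18 * g 18 = 1 ∧ g 13 * g 15 * g 13 * g 15 = 1 ∧ g 10 * g 10 = 1 ∧ g 10 * g 15 =
    g 15 * g 10 ∧ g 10 * g 18 = g 18 * g 10 ∧ g 11 * g 19 = g 19 * g 11 ∧ g 16 * g 19 = g 19 * g 16
    ∧ g 17 * g 19 = g 19 * g 17 ∧ g 10 * g 19 = g 19 * g 10 := by
  simp only [fFeq, Fm.sem, sem_andL, sem_orL, mem_lS, mem_l1, mem_lB, mem_lD, mem_lV, wv_append, wv_wd,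
    wv_cons, wv_nil, one_mul, upd_apply, Nat.reduceEqDiff, ↓reduceIte, hφ, forall_const] at h
  exact h

/-- a finite check -/
def fFr5 : Fm :=
  (.and (.eq [13,13] []) (.and (.eq [22,22] []) (.and (.eq [22,13,22] [23]) (.and (.eq [20,24]
  [24,20]) (.and (.eq [13,24] [24,22]) (.and (.eq [20,25] [25,13]) (.eq [13,25] [25,22])))))))

theorem fFr5_sem (hφ : ∀ x, pw (g 11) (g 12) (g 13) (g 14) x = φ x) (h : fFr5.sem S g) :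
    g 13 * g 13 = 1 ∧ g 22 * g 22 = 1 ∧ g 22 * g 13 * g 22 = g 23 ∧ g 24 * g 20 = g 20 * g 24 ∧ g 24
    * g 13 = g 22 * g 24 ∧ g 25 * g 20 = g 13 * g 25 ∧ g 25 * g 13 = g 22 * g 25 := by
  simp only [fFr5, Fm.sem, sem_andL, sem_orL, mem_lS, mem_l1, mem_lB, mem_lD, mem_lV, wv_append, wv_wd,
    wv_cons, wv_nil, one_mul, upd_apply, Nat.reduceEqDiff, ↓reduceIte, hφ, forall_const] at h
  exact h

/-- a finite check -/
def fFr8 : Fm :=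
  (.and (.eq [21,21] []) (.and (.eq [26,26] []) (.and (.eq [26,21,26] [27]) (.and (.eq [14,28]
  [28,14]) (.and (.eq [21,28] [28,26]) (.and (.eq [14,29] [29,21]) (.eq [21,29] [29,26])))))))

theorem fFr8_sem (hφ : ∀ x, pw (g 11) (g 12) (g 13) (g 14) x = φ x) (h : fFr8.sem S g) :
    g 21 * g 21 = 1 ∧ g 26 * g 26 = 1 ∧ g 26 * g 21 * g 26 = g 27 ∧ g 28 * g 14 = g 14 * g 28 ∧ g 28
    * g 21 = g 26 * g 28 ∧ g 29 * g 14 = g 21 * g 29 ∧ g 29 * g 21 = g 26 * g 29 := by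
  simp only [fFr8, Fm.sem, sem_andL, sem_orL, mem_lS, mem_l1, mem_lB, mem_lD, mem_lV, wv_append, wv_wd,
    wv_cons, wv_nil, one_mul, upd_apply, Nat.reduceEqDiff, ↓reduceIte, hφ, forall_const] at h
  exact h

/-- a finite check -/
def fFr24 : Fm :=
  (.and (.eq [23,23] []) (.and (.eq [30,30] []) (.and (.eq [30,23,30] [31]) (.and (.eq [20,32]
  [32,20]) (.and (.eq [23,32] [32,30]) (.and (.eq [20,33] [33,23]) (.eq [23,33] [33,30])))))))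

theorem fFr24_sem (hφ : ∀ x, pw (g 11) (g 12) (g 13) (g 14) x = φ x) (h : fFr24.sem S g) :
    g 23 * g 23 = 1 ∧ g 30 * g 30 = 1 ∧ g 30 * g 23 * g 30 = g 31 ∧ g 32 * g 20 = g 20 * g 32 ∧ g 32
    * g 23 = g 30 * g 32 ∧ g 33 * g 20 = g 23 * g 33 ∧ g 33 * g 23 = g 30 * g 33 := by
  simp only [fFr24, Fm.sem, sem_andL, sem_orL, mem_lS, mem_l1, mem_lB, mem_lD, mem_lV, wv_append, wv_wd,
    wv_cons, wv_nil, one_mul, upd_apply, Nat.reduceEqDiff, ↓reduceIte, hφ, forall_const] at h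
  exact h

/-- a finite check -/
def fFr31 : Fm :=
  (.and (.eq [27,27] []) (.and (.eq [34,34] []) (.and (.eq [34,27,34] [35]) (.and (.eq [14,36]
  [36,14]) (.and (.eq [27,36] [36,34]) (.and (.eq [20,37] [37,27]) (.eq [31,37] [37,34])))))))

theorem fFr31_sem (hφ : ∀ x, pw (g 11) (g 12) (g 13) (g 14) x = φ x) (h : fFr31.sem S g) :
    g 27 * g 27 = 1 ∧ g 34 * g 34 = 1 ∧ g 34 * g 27 * g 34 = g 35 ∧ g 36 * g 14 = g 14 * g 36 ∧ g 36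
    * g 27 = g 34 * g 36 ∧ g 37 * g 20 = g 27 * g 37 ∧ g 37 * g 31 = g 34 * g 37 := by
  simp only [fFr31, Fm.sem, sem_andL, sem_orL, mem_lS, mem_l1, mem_lB, mem_lD, mem_lV, wv_append, wv_wd,
    wv_cons, wv_nil, one_mul, upd_apply, Nat.reduceEqDiff, ↓reduceIte, hφ, forall_const] at h
  exact h

/-- a finite check -/
def fFr20 : Fm :=
  (.and (.eq [13,13] []) (.and (.eq [38,38] []) (.and (.eq [38,13,38] [39]) (.and (.eq [14,40]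
  [40,20]) (.and (.eq [35,40] [40,38]) (.and (.eq [14,41] [41,13]) (.eq [35,41] [41,38])))))))

theorem fFr20_sem (hφ : ∀ x, pw (g 11) (g 12) (g 13) (g 14) x = φ x) (h : fFr20.sem S g) :
    g 13 * g 13 = 1 ∧ g 38 * g 38 = 1 ∧ g 38 * g 13 * g 38 = g 39 ∧ g 40 * g 14 = g 20 * g 40 ∧ g 40
    * g 35 = g 38 * g 40 ∧ g 41 * g 14 = g 13 * g 41 ∧ g 41 * g 35 = g 38 * g 41 := by
  simp only [fFr20, Fm.sem, sem_andL, sem_orL, mem_lS, mem_l1, mem_lB, mem_lD, mem_lV, wv_append, wv_wd,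
    wv_cons, wv_nil, one_mul, upd_apply, Nat.reduceEqDiff, ↓reduceIte, hφ, forall_const] at h
  exact h

/-- a finite check -/
def fFrf : Fm :=
  (.and (.eq [20,20] []) (.and (.eq [39,39] []) (.and (.eq [42,42] []) (.and (.not (.eq [20] []))
  (.and (.not (.eq [39] [])) (.and (.not (.eq [42] [])) (.and (.eq [42,20] [20,42]) (.and (.eq
  [20,43] [43,42]) (.eq [39,43] [43,39])))))))))

theorem fFrf_sem (hφ : ∀ x, pw (g 11) (g 12) (g 13) (g 14) x = φ x) (h : fFrf.sem S g) :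
    g 20 * g 20 = 1 ∧ g 39 * g 39 = 1 ∧ g 42 * g 42 = 1 ∧ g 20 ≠ 1 ∧ g 39 ≠ 1 ∧ g 42 ≠ 1 ∧ g 20 * g
    42 = g 42 * g 20 ∧ g 43 * g 20 = g 42 * g 43 ∧ g 43 * g 39 = g 39 * g 43 := by
  simp only [fFrf, Fm.sem, sem_andL, sem_orL, mem_lS, mem_l1, mem_lB, mem_lD, mem_lV, wv_append, wv_wd,
    wv_cons, wv_nil, one_mul, upd_apply, Nat.reduceEqDiff, ↓reduceIte, hφ, forall_const] at h
  exact h

/-- a finite check -/
def fGiz : Fm :=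
  (.all 0 60 (.imp (.eq [60,60] []) (.or (orL lB fun y => .eq [60] (wd y)) (.ex 0 61 (.eq [21,61]
  [61,60])))))

theorem fGiz_sem (hφ : ∀ x, pw (g 11) (g 12) (g 13) (g 14) x = φ x) (h : fGiz.sem S g) :
    ∀ A ∈ S 0, A * A = 1 → ((∃ y ∈ B0, A = φ y) ∨ (∃ B ∈ S 0, B * g 21 = A * B)) := by
  simp only [fGiz, Fm.sem, sem_andL, sem_orL, mem_lS, mem_l1, mem_lB, mem_lD, mem_lV, wv_append, wv_wd,
    wv_cons, wv_nil, one_mul, upd_apply, Nat.reduceEqDiff, ↓reduceIte, hφ, forall_const] at h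
  exact h

/-- a finite check -/
def fGtD : Fm :=
  (.all 2 60 (.or (orL lB fun y => .eq [60] (wd y)) (.bind 63 [60,60,60,60] (.and (.not (.eq [63]
  [])) (.eq [63,63,63] [])))))

theorem fGtD_sem (hφ : ∀ x, pw (g 11) (g 12) (g 13) (g 14) x = φ x) (h : fGtD.sem S g) :
    ∀ A ∈ S 2, (∃ y ∈ B0, A = φ y) ∨ ((A * A * A * A) ≠ 1 ∧ (A * A * A * A) * (A * A * A * A) * (A *
    A * A * A) = 1) := by
  simp only [fGtD, Fm.sem, sem_andL, sem_orL, mem_lS, mem_l1, mem_lB, mem_lD, mem_lV, wv_append, wv_wd,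
    wv_cons, wv_nil, one_mul, upd_apply, Nat.reduceEqDiff, ↓reduceIte, hφ, forall_const] at h
  exact h

/-- a finite check -/
def fGcT : Fm :=
  (.all 1 60 (.imp (.eq [11,60] [60,11]) (.imp (.eq [13,60] [60,13]) (.imp (.eq [14,60] [60,14])
  (.or (.eq [60] []) (.eq [60] [19]))))))

theorem fGcT_sem (hφ : ∀ x, pw (g 11) (g 12) (g 13) (g 14) x = φ x) (h : fGcT.sem S g) :
    ∀ A ∈ S 1, A * g 11 = g 11 * A → A * g 13 = g 13 * A → A * g 14 = g 14 * A → (A = 1 ∨ A = g 19) := by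
  simp only [fGcT, Fm.sem, sem_andL, sem_orL, mem_lS, mem_l1, mem_lB, mem_lD, mem_lV, wv_append, wv_wd,
    wv_cons, wv_nil, one_mul, upd_apply, Nat.reduceEqDiff, ↓reduceIte, hφ, forall_const] at h
  exact h

/-- a finite check -/
def fGoi : Fm :=
  (.all 1 60 (.imp (.eq [60,60] []) (.or (.ex 0 61 (.eq [60] [61])) (.ex 0 61 (.eq [10,61]
  [61,60])))))

theorem fGoi_sem (hφ : ∀ x, pw (g 11) (g 12) (g 13) (g 14) x = φ x) (h : fGoi.sem S g) :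
    ∀ A ∈ S 1, A * A = 1 → ((∃ B ∈ S 0, A = B) ∨ (∃ B ∈ S 0, B * g 10 = A * B)) := by
  simp only [fGoi, Fm.sem, sem_andL, sem_orL, mem_lS, mem_l1, mem_lB, mem_lD, mem_lV, wv_append, wv_wd,
    wv_cons, wv_nil, one_mul, upd_apply, Nat.reduceEqDiff, ↓reduceIte, hφ, forall_const] at h
  exact h

/-- a finite check -/
def fGcF : Fm :=
  (.all 1 60 (.imp (.eq [20,60] [60,20]) (orL lD fun y => .or (.eq [60] (wd y)) (.eq [60] (10 ::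
  wd y)))))

theorem fGcF_sem (hφ : ∀ x, pw (g 11) (g 12) (g 13) (g 14) x = φ x) (h : fGcF.sem S g) :
    ∀ A ∈ S 1, A * g 20 = g 20 * A → (∃ y ∈ D0, A = φ y ∨ A = φ y * g 10) := by
  simp only [fGcF, Fm.sem, sem_andL, sem_orL, mem_lS, mem_l1, mem_lB, mem_lD, mem_lV, wv_append, wv_wd,
    wv_cons, wv_nil, one_mul, upd_apply, Nat.reduceEqDiff, ↓reduceIte, hφ, forall_const] at h
  exact h

/-- a finite check -/
def fGcB : Fm :=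
  (.all 1 60 (.imp (.or (.eq [20,60] [60,20]) (.eq [20,60] [60,19,20])) (.imp (.or (.eq [14,60]
  [60,14]) (.eq [14,60] [60,19,14])) (.imp (.or (.eq [13,60] [60,13]) (.eq [13,60] [60,19,13]))
  (orL lB fun y => .eq [60] (wd y))))))

theorem fGcB_sem (hφ : ∀ x, pw (g 11) (g 12) (g 13) (g 14) x = φ x) (h : fGcB.sem S g) :
    ∀ A ∈ S 1, (A * g 20 = g 20 * A ∨ A * g 20 = g 20 * g 19 * A) → (A * g 14 = g 14 * A ∨ A * g 14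
    = g 14 * g 19 * A) → (A * g 13 = g 13 * A ∨ A * g 13 = g 13 * g 19 * A) → (∃ y ∈ B0, A = φ y) := by
  simp only [fGcB, Fm.sem, sem_andL, sem_orL, mem_lS, mem_l1, mem_lB, mem_lD, mem_lV, wv_append, wv_wd,
    wv_cons, wv_nil, one_mul, upd_apply, Nat.reduceEqDiff, ↓reduceIte, hφ, forall_const] at h
  exact h

/-- a finite check -/
def fGnD : Fm :=
  (.all 1 60 (.bind 63 [60,60,60] (.imp (.eq [63,63,63] []) (.ex 2 61 (.eq [60] [61])))))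

theorem fGnD_sem (hφ : ∀ x, pw (g 11) (g 12) (g 13) (g 14) x = φ x) (h : fGnD.sem S g) :
    ∀ A ∈ S 1, (A * A * A) * (A * A * A) * (A * A * A) = 1 → (∃ B ∈ S 2, A = B) := by
  simp only [fGnD, Fm.sem, sem_andL, sem_orL, mem_lS, mem_l1, mem_lB, mem_lD, mem_lV, wv_append, wv_wd,
    wv_cons, wv_nil, one_mul, upd_apply, Nat.reduceEqDiff, ↓reduceIte, hφ, forall_const] at h
  exact h

/-- a finite check -/
def fHo4 : Fm :=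
  (.all 0 60 (.imp (.eq [60,60] [19]) (.all 0 61 (.imp (.eq [61,61] []) (.imp (.eq [60,61]
  [61,60]) (.or (.eq [61] []) (.or (.eq [61] [19]) (.all 0 62 (.imp (.eq [62,62] []) (.imp (.eq
  [60,62] [62,60]) (.imp (.eq [62,61] [61,62]) (.or (.eq [62] []) (.or (.eq [62] [19]) (.or (.eq
  [62,61] []) (.eq [62,61] [19])))))))))))))))

theorem fHo4_sem (hφ : ∀ x, pw (g 11) (g 12) (g 13) (g 14) x = φ x) (h : fHo4.sem S g) :
    ∀ A ∈ S 0, A * A = g 19 → (∀ B ∈ S 0, B * B = 1 → B * A = A * B → (B = 1 ∨ B = g 19 ∨ (∀ C ∈ S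
    0, C * C = 1 → C * A = A * C → B * C = C * B → (C = 1 ∨ C = g 19 ∨ B * C = 1 ∨ B * C = g 19)))) := by
  simp only [fHo4, Fm.sem, sem_andL, sem_orL, mem_lS, mem_l1, mem_lB, mem_lD, mem_lV, wv_append, wv_wd,
    wv_cons, wv_nil, one_mul, upd_apply, Nat.reduceEqDiff, ↓reduceIte, hφ, forall_const] at h
  exact h

/-- the finite checks -/
structure Fc (g : ℕ → Ω) (S : ℕ → Subgroup Ω) (φ : S4 → Ω) : Prop where
  inj : ∀ x, x ≠ 1 → φ x ≠ 1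
  rD : ∀ x ∈ D0, g 15 * φ x = φ (ρr x) * g 15
  dB : ∀ x ∈ B0, g 16 * φ x = φ (δ1 x) * g 16
  eB : ∀ x ∈ B0, g 17 * φ x = φ (δ2 x) * g 17
  fV : ∀ x ∈ V0, g 18 * φ x = φ (δf x) * g 18
  σS : ∀ x, g 10 * φ x = φ (ρσ x) * g 10
  cl : ∀ p ∈ lC, wv g p.2 * g 19 = φ p.1 * wv g p.2
  lt : (g 11 = φ a0) ∧ (g 13 = φ s0) ∧ (g 14 = φ c0) ∧ (g 19 = φ z0) ∧ (g 20 = φ x0) ∧ (g 21 = φ (a0 *
    c0))
  eq : g 15 * g 15 * g 15 = 1 ∧ g 16 * g 16 * g 16 = 1 ∧ g 17 * g 17 * g 17 = 1 ∧ g 18 * g 18 * g 18 *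
    g 18 * g 18 * g 18 * g 18 = 1 ∧ g 13 * g 15 * g 13 * g 15 = 1 ∧ g 10 * g 10 = 1 ∧ g 10 * g 15 =
    g 15 * g 10 ∧ g 10 * g 18 = g 18 * g 10 ∧ g 11 * g 19 = g 19 * g 11 ∧ g 16 * g 19 = g 19 * g 16
    ∧ g 17 * g 19 = g 19 * g 17 ∧ g 10 * g 19 = g 19 * g 10
  r5 : g 13 * g 13 = 1 ∧ g 22 * g 22 = 1 ∧ g 22 * g 13 * g 22 = g 23 ∧ g 24 * g 20 = g 20 * g 24 ∧ g 24
    * g 13 = g 22 * g 24 ∧ g 25 * g 20 = g 13 * g 25 ∧ g 25 * g 13 = g 22 * g 25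
  r8 : g 21 * g 21 = 1 ∧ g 26 * g 26 = 1 ∧ g 26 * g 21 * g 26 = g 27 ∧ g 28 * g 14 = g 14 * g 28 ∧ g 28
    * g 21 = g 26 * g 28 ∧ g 29 * g 14 = g 21 * g 29 ∧ g 29 * g 21 = g 26 * g 29
  r24 : g 23 * g 23 = 1 ∧ g 30 * g 30 = 1 ∧ g 30 * g 23 * g 30 = g 31 ∧ g 32 * g 20 = g 20 * g 32 ∧ g 32
    * g 23 = g 30 * g 32 ∧ g 33 * g 20 = g 23 * g 33 ∧ g 33 * g 23 = g 30 * g 33
  r31 : g 27 * g 27 = 1 ∧ g 34 * g 34 = 1 ∧ g 34 * g 27 * g 34 = g 35 ∧ g 36 * g 14 = g 14 * g 36 ∧ g 36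
    * g 27 = g 34 * g 36 ∧ g 37 * g 20 = g 27 * g 37 ∧ g 37 * g 31 = g 34 * g 37
  r20 : g 13 * g 13 = 1 ∧ g 38 * g 38 = 1 ∧ g 38 * g 13 * g 38 = g 39 ∧ g 40 * g 14 = g 20 * g 40 ∧ g 40
    * g 35 = g 38 * g 40 ∧ g 41 * g 14 = g 13 * g 41 ∧ g 41 * g 35 = g 38 * g 41
  rf : g 20 * g 20 = 1 ∧ g 39 * g 39 = 1 ∧ g 42 * g 42 = 1 ∧ g 20 ≠ 1 ∧ g 39 ≠ 1 ∧ g 42 ≠ 1 ∧ g 20 * g
    42 = g 42 * g 20 ∧ g 43 * g 20 = g 42 * g 43 ∧ g 43 * g 39 = g 39 * g 43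
  iz : ∀ A ∈ S 0, A * A = 1 → ((∃ y ∈ B0, A = φ y) ∨ (∃ B ∈ S 0, B * g 21 = A * B))
  tD : ∀ A ∈ S 2, (∃ y ∈ B0, A = φ y) ∨ ((A * A * A * A) ≠ 1 ∧ (A * A * A * A) * (A * A * A * A) * (A *
    A * A * A) = 1)
  cT : ∀ A ∈ S 1, A * g 11 = g 11 * A → A * g 13 = g 13 * A → A * g 14 = g 14 * A → (A = 1 ∨ A = g 19)
  oi : ∀ A ∈ S 1, A * A = 1 → ((∃ B ∈ S 0, A = B) ∨ (∃ B ∈ S 0, B * g 10 = A * B))
  cF : ∀ A ∈ S 1, A * g 20 = g 20 * A → (∃ y ∈ D0, A = φ y ∨ A = φ y * g 10)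
  cB : ∀ A ∈ S 1, (A * g 20 = g 20 * A ∨ A * g 20 = g 20 * g 19 * A) → (A * g 14 = g 14 * A ∨ A * g 14
    = g 14 * g 19 * A) → (A * g 13 = g 13 * A ∨ A * g 13 = g 13 * g 19 * A) → (∃ y ∈ B0, A = φ y)
  nD : ∀ A ∈ S 1, (A * A * A) * (A * A * A) * (A * A * A) = 1 → (∃ B ∈ S 2, A = B)
  o4 : ∀ A ∈ S 0, A * A = g 19 → (∀ B ∈ S 0, B * B = 1 → B * A = A * B → (B = 1 ∨ B = g 19 ∨ (∀ C ∈ S
    0, C * C = 1 → C * A = A * C → B * C = C * B → (C = 1 ∨ C = g 19 ∨ B * C = 1 ∨ B * C = g 19))))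

/-- a group of checks -/
def fF : Fm := andL [fFinj, fFrD, fFdB, fFeB, fFfV, fFσS, fFcl, fFlt, fFeq, fFr5, fFr8, fFr24, fFr31, fFr20, fFrf] id

/-- a group of checks -/
def fG : Fm := andL [fGiz, fGtD, fGcT, fGoi, fGcF, fGcB, fGnD] id

theorem Fc.of (hφ : ∀ x, pw (g 11) (g 12) (g 13) (g 14) x = φ x) (h1 : fF.sem S g) (h2 : fG.sem S g)
    (h3 : fHo4.sem S g) : Fc g S φ :=
  ⟨fFinj_sem hφ h1.1, fFrD_sem hφ h1.2.1, fFdB_sem hφ h1.2.2.1, fFeB_sem hφ h1.2.2.2.1,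
    fFfV_sem hφ h1.2.2.2.2.1, fFσS_sem hφ h1.2.2.2.2.2.1, fFcl_sem hφ h1.2.2.2.2.2.2.1,
    fFlt_sem hφ h1.2.2.2.2.2.2.2.1, fFeq_sem hφ h1.2.2.2.2.2.2.2.2.1,
    fFr5_sem hφ h1.2.2.2.2.2.2.2.2.2.1, fFr8_sem hφ h1.2.2.2.2.2.2.2.2.2.2.1,
    fFr24_sem hφ h1.2.2.2.2.2.2.2.2.2.2.2.1, fFr31_sem hφ h1.2.2.2.2.2.2.2.2.2.2.2.2.1,
    fFr20_sem hφ h1.2.2.2.2.2.2.2.2.2.2.2.2.2.1, fFrf_sem hφ h1.2.2.2.2.2.2.2.2.2.2.2.2.2.2.1,
    fGiz_sem hφ h2.1, fGtD_sem hφ h2.2.1, fGcT_sem hφ h2.2.2.1, fGoi_sem hφ h2.2.2.2.1,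
    fGcF_sem hφ h2.2.2.2.2.1, fGcB_sem hφ h2.2.2.2.2.2.1, fGnD_sem hφ h2.2.2.2.2.2.2.1,
    fHo4_sem hφ h3⟩

end Cfsg.Lib.StdG
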