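import Cfsg.Agent.StdG.Defs

/-!
# Standard subgroups with one class of involutions: the action `ρ`
-/

set_option autoImplicit false

namespace Cfsg.Lib.StdG

open Subgroup Cfsg.Lib.Gold Cfsg.Lib.Trans Cfsg.Lib.StdSz
open scoped commutatorElement

variable {G Ω : Type*} [Group G] [Group Ω] {Γ Γ0 T : Subgroup Ω} {z : Ω}

theorem Base.two_le [Finite Ω] (b : Base Γ Γ0 T z) {Q : Subgroup Ω} (hQ : Q ≤ Γ) (h2 : IsPGroup 2 Q) :
    Nat.card Q ≤ 128 := by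
  have h1 := b.syl (Γ0 ⊓ Q) inf_le_left (h2.to_le inf_le_right)
  have h3 : Γ0.relIndex Q ≤ 2 := by
    by_cases h : Q ≤ Γ0
    · rw [relIndex_eq_one.2 h]; norm_num
    · obtain ⟨a, ha, h0⟩ := SetLike.not_le_iff_exists.1 h
      refine (relIndex_eq_two_iff.2 ⟨a, ha, fun x hx => ?_⟩).le
      by_cases hx0 : x ∈ Γ0
      · exact Or.inr ⟨hx0, fun e => h0 ((mul_mem_cancel_left hx0).1 e)⟩
      · exact Or.inl ⟨b.idx x (hQ hx) a (hQ ha) hx0 h0, hx0⟩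
  have h4 := relIndex_mul_relIndex ⊥ (Γ0 ⊓ Q) Q bot_le inf_le_right
  rw [relIndex_bot_left, relIndex_bot_left, inf_relIndex_right] at h4
  rw [← h4]
  exact (Nat.mul_le_mul h1 h3).trans (by norm_num)

theorem Base.conj_mem (b : Base Γ Γ0 T z) {g x : Ω} (hg : g ∈ Γ) (hx : x ∈ Γ0) : g * x * g⁻¹ ∈ Γ0 := by
  by_cases h : g ∈ Γ0
  · exact mul_mem (mul_mem h hx) (inv_mem h)
  · exact b.idx _ (mul_mem hg (b.le hx)) _ (inv_mem hg) (fun e => h ((mul_mem_cancel_right hx).1 e))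
      fun e => h (inv_mem_iff.1 e)

theorem Base.le_Ns (b : Base Γ Γ0 T z) : Γ ≤ Ns Γ0 := fun g hg => mem_normalizer_iff.2 fun x =>
  ⟨b.conj_mem hg, fun h => by simpa [mul_assoc] using b.conj_mem (inv_mem hg) h⟩

theorem Base.mem_zp (b : Base Γ Γ0 T z) {g : Ω} (h : g ∈ zpowers z) : g = 1 ∨ g = z := by
  obtain ⟨i, rfl⟩ := h
  have h2 : z ^ (2 : ℤ) = 1 := by rw [zpow_two, b.z2]
  rcases Int.even_or_odd' i with ⟨j, rfl | rfl⟩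
  · exact Or.inl (by simp only [zpow_mul, h2, one_zpow])
  · exact Or.inr (by simp only [zpow_add, zpow_mul, h2, one_zpow, one_mul, zpow_one])

theorem Base.cen (b : Base Γ Γ0 T z) {g : Ω} (hg : g ∈ Γ) (h : g ∈ Cs Γ0) : g = 1 := by
  refine (b.mem_zp (b.centT ⟨hg, StdJ4.Cs_anti b.T0 h⟩)).resolve_right fun e => ?_
  subst e
  have := b.simple
  have h1 : center Γ0 = ⊤ := (IsSimpleGroup.eq_bot_or_eq_top_of_normal _ inferInstance).resolve_left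
    fun e => b.z1 (congrArg Subtype.val (mem_bot.1 (e.le (show (⟨g, b.T0 b.zT⟩ : Γ0) ∈ center Γ0 from
      mem_center_iff.2 fun y => Subtype.ext (h y y.2)))))
  have h2 : ⁅T, T⁆ ≤ ⊥ := commutator_le.2 fun x hx y hy => mem_bot.2 (commutatorElement_eq_one_iff_mul_comm.2
    (congrArg Subtype.val (mem_center_iff.1 (h1.ge (mem_top (⟨y, b.T0 hy⟩ : Γ0))) ⟨x, b.T0 hx⟩)))
  exact b.z1 (mem_bot.1 (h2 b.zder))

theorem Base.cent_cent (b : Base Γ Γ0 T z) {a g : Ω} (ha : a ∈ Γ0) (h2 : a * a = 1) (h1 : a ≠ 1)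
    (hg : g ∈ Γ) (h : g ∈ Cs (Γ0 ⊓ C1 a)) : g = 1 ∨ g = a := by
  obtain ⟨c, hc, rfl⟩ := b.cls a ha h2 h1
  have h3 : c⁻¹ * g * c ∈ Γ ⊓ Cs T := mem_inf.2 ⟨mul_mem (mul_mem (inv_mem (b.le hc)) hg) (b.le hc),
    StdSz.mem_Cs.2 fun x hx => by
      have := StdSz.mem_Cs.1 h (c * x * c⁻¹) (mem_inf.2 ⟨mul_mem (mul_mem hc (b.T0 hx)) (inv_mem hc),
        StdSz.mem_C1.2 ((StdSz.mem_Cs.1 b.zc x hx).symm.map (MulAut.conj c))⟩)
      simpa [mul_assoc] using this.map (MulAut.conj c⁻¹)⟩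
  refine (b.mem_zp (b.centT h3)).imp (fun e => ?_) fun e => ?_
  · calc g = c * (c⁻¹ * g * c) * c⁻¹ := by group
      _ = 1 := by rw [e]; group
  · rw [← e]; group

theorem Base.exists_64 (b : Base Γ Γ0 T z) {a : Ω} (ha : a ∈ Γ0) (h2 : a * a = 1) :
    ∃ Q ≤ Γ0 ⊓ C1 a, Nat.card Q = 64 := by
  by_cases h1 : a = 1
  · exact ⟨T, le_inf b.T0 fun x _ => StdSz.mem_C1.2 (h1 ▸ Commute.one_right x), b.cardT⟩
  obtain ⟨c, hc, rfl⟩ := b.cls a ha h2 h1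
  exact ⟨cj c T, le_inf (cj_le_of_mem_of_le hc b.T0) (cj_le_iff.2 fun x hx =>
    StdSz.mem_C1.2 ((StdSz.mem_Cs.1 b.zc x hx).symm.map (MulAut.conj c))), (card_cj c T).trans b.cardT⟩

namespace Mdl

variable {A : Subgroup G} {ρ : G → Ω} (h : Mdl Γ Γ0 A ρ)
include h

/-- `ρ` as a homomorphism -/
def hom : Ns A →* Ω := MonoidHom.mk' (fun x => ρ x) fun x y => h.mul x x.2 y y.2

theorem one : ρ 1 = 1 := h.hom.map_one

theorem inv {x : G} (hx : x ∈ Ns A) : ρ x⁻¹ = (ρ x)⁻¹ := h.hom.map_inv ⟨x, hx⟩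

theorem pow {x : G} (hx : x ∈ Ns A) (n : ℕ) : ρ (x ^ n) = ρ x ^ n := h.hom.map_pow ⟨x, hx⟩ n

theorem conj {x y : G} (hx : x ∈ Ns A) (hy : y ∈ Ns A) : ρ (x * y * x⁻¹) = ρ x * ρ y * (ρ x)⁻¹ := by
  rw [h.mul _ (mul_mem hx hy) _ (inv_mem hx), h.mul x hx y hy, h.inv hx]

theorem comm {x y : G} (hx : x ∈ Ns A) (hy : y ∈ Ns A) : ρ ⁅x, y⁆ = ⁅ρ x, ρ y⁆ :=
  map_commutatorElement h.hom ⟨x, hx⟩ ⟨y, hy⟩

theorem commute {x y : G} (hx : x ∈ Ns A) (hy : y ∈ Ns A) (e : Commute x y) : Commute (ρ x) (ρ y) :=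
  (h.mul x hx y hy).symm.trans ((congrArg ρ e.eq).trans (h.mul y hy x hx))

/-- the image of a subgroup -/
def img (R : Subgroup G) : Subgroup Ω := (R.subgroupOf (Ns A)).map h.hom

theorem mem_img {R : Subgroup G} {γ : Ω} : γ ∈ h.img R ↔ ∃ x ∈ R, x ∈ Ns A ∧ ρ x = γ :=
  ⟨fun ⟨x, hx, e⟩ => ⟨x, hx, x.2, e⟩, fun ⟨x, hx, hn, e⟩ => ⟨⟨x, hn⟩, hx, e⟩⟩

theorem img_le (R : Subgroup G) : h.img R ≤ Γ := fun _ ⟨x, _, e⟩ => e ▸ h.memΓ x x.2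

theorem card_img {R : Subgroup G} (hR : R ≤ Ns A) :
    Nat.card R = Nat.card ↥(R ⊓ Cs A) * Nat.card (h.img R) := by
  have h1 := (h.hom.comp (inclusion hR)).ker.card_mul_index
  have h2 : (h.hom.comp (inclusion hR)).range = h.img R := Subgroup.ext fun γ =>
    ⟨fun ⟨x, e⟩ => h.mem_img.2 ⟨x, x.2, hR x.2, e⟩, fun e =>
      let ⟨x, hx, _, e⟩ := h.mem_img.1 e; ⟨⟨x, hx⟩, e⟩⟩
  have h3 : (h.hom.comp (inclusion hR)).ker = (R ⊓ Cs A).subgroupOf R := Subgroup.ext fun x =>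
    (h.ker x (hR x.2)).trans ⟨fun e => ⟨x.2, e⟩, fun e => e.2⟩
  rw [index_ker, h2, h3, Nat.card_congr (subgroupOfEquivOfLe inf_le_left).toEquiv] at h1
  exact h1.symm

theorem two_img {p : ℕ} {R : Subgroup G} (hR : IsPGroup p R) : IsPGroup p (h.img R) :=
  (hR.comap_of_injective _ (subtype_injective _)).map _

theorem inner {x : G} (hx : x ∈ Ns A) : ρ x ∈ Γ0 ↔ ∃ a ∈ A, a⁻¹ * x ∈ Cs A := by
  refine ⟨fun e => ?_, fun ⟨a, ha, e⟩ => ?_⟩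
  · obtain ⟨a, ha, e⟩ := h.surj _ e
    refine ⟨a, ha, (h.ker _ (mul_mem (inv_mem (le_normalizer ha)) hx)).1 ?_⟩
    rw [h.mul _ (inv_mem (le_normalizer ha)) _ hx, h.inv (le_normalizer ha), e, inv_mul_cancel]
  · have := (h.ker _ (StdJ4.Cs_le_Ns A e)).2 e
    rw [h.mul _ (inv_mem (le_normalizer ha)) _ hx, h.inv (le_normalizer ha), inv_mul_eq_one] at this
    exact this ▸ h.mem a ha

theorem cjg (g : G) : Mdl Γ Γ0 (cj g A) fun x => ρ (g⁻¹ * x * g) := by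
  have n : ∀ {x}, x ∈ Ns (cj g A) → g⁻¹ * x * g ∈ Ns A := fun hx => mem_cj.1 (StdJ4.cj_Ns g A ▸ hx)
  refine ⟨fun x hx y hy => ?_, fun x hx => ?_, fun x hx => h.memΓ _ (n hx),
    fun a ha => h.mem _ (mem_cj.1 ha), fun γ hγ => ?_, ?_, ?_⟩
  · rw [← h.mul _ (n hx) _ (n hy)]; congr 1; group
  · rw [h.ker _ (n hx), ← StdJ4.cj_Cs, mem_cj]
  · obtain ⟨a, ha, e⟩ := h.surj γ hγ
    exact ⟨g * a * g⁻¹, conj_mem_cj.2 ha, by rw [← e]; congr 1; group⟩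
  · rw [← cj_commutator]; exact cj_mono g h.perf
  · rw [← StdJ4.cj_Cs, ← cj_inf, card_cj]; exact h.odd

theorem mem_Cs_of {a a' : G} (ha : a ∈ Ns A) (ha' : a' ∈ Ns A) (e : ρ a = ρ a') : a⁻¹ * a' ∈ Cs A :=
  (h.ker _ (mul_mem (inv_mem ha) ha')).1 (by rw [h.mul _ (inv_mem ha) _ ha', h.inv ha, e, inv_mul_cancel])

/-- a subgroup covering `Γ0` contains `A` -/
theorem le_of_surj {H : Subgroup G} (hH : ∀ γ ∈ Γ0, ∃ x ∈ A, x ∈ H ∧ ρ x = γ) : A ≤ H := by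
  refine h.perf.trans (commutator_le.2 fun a ha a' ha' => ?_)
  obtain ⟨x, hx, hxH, e⟩ := hH _ (h.mem a ha)
  obtain ⟨y, hy, hyH, e'⟩ := hH _ (h.mem a' ha')
  have c := StdSz.mem_Cs.1 (h.mem_Cs_of (le_normalizer hx) (le_normalizer ha) e)
  have c' := StdSz.mem_Cs.1 (h.mem_Cs_of (le_normalizer hy) (le_normalizer ha') e')
  have e1 : a * a' * a⁻¹ = x * a' * x⁻¹ := by
    calc _ = x * (x⁻¹ * a * a') * a⁻¹ := by group
      _ = _ := by rw [(c a' ha').eq]; group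
  have e2 : a' * x⁻¹ * a'⁻¹ = y * x⁻¹ * y⁻¹ := by
    calc _ = y * (y⁻¹ * a' * x⁻¹) * a'⁻¹ := by group
      _ = _ := by rw [(c' _ (inv_mem hx)).eq]; group
  rw [commutatorElement_def, e1, mul_assoc, mul_assoc, ← mul_assoc a', e2]
  exact mul_mem hxH (mul_mem (mul_mem hyH (inv_mem hxH)) (inv_mem hyH))

theorem le_of_normal (b : Base Γ Γ0 T z) {J : Subgroup G} (hJ : A ≤ Ns J) {a : G} (ha : a ∈ A)
    (haJ : a ∈ J) (h1 : ρ a ≠ 1) : A ≤ J := by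
  have := b.simple
  have hn : ((h.img (A ⊓ J)).subgroupOf Γ0).Normal := ⟨fun x hx g => by
    obtain ⟨y, hy, -, e⟩ := h.mem_img.1 hx
    obtain ⟨c, hc, e'⟩ := h.surj g g.2
    refine h.mem_img.2 ⟨c * y * c⁻¹, mem_inf.2 ⟨mul_mem (mul_mem hc hy.1) (inv_mem hc),
      mem_normalizer_conj (hJ hc) hy.2⟩, le_normalizer (mul_mem (mul_mem hc hy.1) (inv_mem hc)), ?_⟩
    rw [h.conj (le_normalizer hc) (le_normalizer hy.1), e, e']; rfl⟩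
  rcases IsSimpleGroup.eq_bot_or_eq_top_of_normal _ hn with e | e
  · exact absurd (congrArg Subtype.val (mem_bot.1 (e.le (show (⟨ρ a, h.mem a ha⟩ : Γ0) ∈ _ from
      h.mem_img.2 ⟨a, ⟨ha, haJ⟩, le_normalizer ha, rfl⟩)))) h1
  · refine h.le_of_surj fun γ hγ => ?_
    obtain ⟨y, hy, -, e⟩ := h.mem_img.1 (subgroupOf_eq_top.1 e hγ)
    exact ⟨y, hy.1, hy.2, e⟩

variable [Finite G]

theorem odd_of_mem {a : G} (ha : a ∈ A) (h1 : a ∈ Cs A) : Odd (orderOf a) :=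
  odd_orderOf h.odd ⟨ha, h1⟩

theorem eq_one {a : G} (ha : a ∈ A) {k : ℕ} (h2 : a ^ 2 ^ k = 1) (h1 : a ∈ Cs A) : a = 1 :=
  orderOf_eq_one_iff.1 (((Nat.coprime_two_right.2
    (h.odd_of_mem ha h1)).pow_right k).eq_one_of_dvd (orderOf_dvd_of_pow_eq_one h2))

theorem eq_of_two {a a' : G} (ha : a ∈ A) (ha' : a' ∈ A) {k l : ℕ} (h2 : a ^ 2 ^ k = 1)
    (h2' : a' ^ 2 ^ l = 1) (e : ρ a = ρ a') : a = a' := by
  have c := h.mem_Cs_of (le_normalizer ha) (le_normalizer ha') e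
  refine inv_mul_eq_one.1 (h.eq_one (mul_mem (inv_mem ha) ha') (k := k + l) ?_ c)
  have c1 : Commute a⁻¹ a' := by
    have := (Commute.refl a).mul_right (StdSz.mem_Cs.1 c a ha).symm
    rw [mul_inv_cancel_left] at this
    exact this.inv_left
  rw [c1.mul_pow, inv_pow, pow_add, pow_mul, h2, mul_comm, pow_mul, h2']
  simp

theorem conj_eq {x a a' : G} (hx : x ∈ Ns A) (ha : a ∈ A) (ha' : a' ∈ A) {k l : ℕ}
    (h2 : a ^ 2 ^ k = 1) (h2' : a' ^ 2 ^ l = 1) (e : ρ x * ρ a * (ρ x)⁻¹ = ρ a') :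
    x * a * x⁻¹ = a' :=
  h.eq_of_two (mem_normalizer_conj hx ha) ha' (k := k) (by rw [conj_pow, h2]; group) h2'
    ((h.conj hx (le_normalizer ha)).trans e)

theorem comm_of {x a : G} (hx : x ∈ Ns A) (ha : a ∈ A) {k : ℕ} (h2 : a ^ 2 ^ k = 1)
    (e : Commute (ρ x) (ρ a)) : Commute x a :=
  commute_of_conj_eq (h.conj_eq hx ha ha h2 h2 (by rw [e.eq, mul_inv_cancel_right]))

theorem lift_p {p : ℕ} (hp : p.Prime) {γ : Ω} (hγ : γ ∈ Γ0) {k : ℕ} (e : γ ^ p ^ k = 1) :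
    ∃ a ∈ A, ρ a = γ ∧ ∃ l, a ^ p ^ l = 1 := by
  obtain ⟨a, ha, rfl⟩ := h.surj γ hγ
  obtain ⟨l, m, hm, e1⟩ := Nat.exists_eq_pow_mul_and_not_dvd (orderOf_pos a).ne' p hp.ne_one
  have hc : m.Coprime (orderOf (ρ a)) := Nat.Coprime.coprime_dvd_right (orderOf_dvd_of_pow_eq_one e)
    (((Nat.Prime.coprime_iff_not_dvd hp).2 hm).symm.pow_right k)
  obtain ⟨j, hj⟩ := exists_pow_eq_self_of_coprime hc
  refine ⟨(a ^ m) ^ j, pow_mem (pow_mem ha m) j, ?_, l, ?_⟩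
  · rw [h.pow (le_normalizer (pow_mem ha m)), h.pow (le_normalizer ha), hj]
  · rw [← pow_mul, ← pow_mul, show m * (j * p ^ l) = p ^ l * m * j by ring, ← e1, pow_mul,
      pow_orderOf_eq_one, one_pow]

theorem lift_inv {γ : Ω} (hγ : γ ∈ Γ0) (e : γ * γ = 1) : ∃ a ∈ A, a * a = 1 ∧ ρ a = γ := by
  obtain ⟨a, ha, rfl, l, hl⟩ := h.lift_p Nat.prime_two hγ (k := 1) (by rw [pow_one, pow_two, e])
  refine ⟨a, ha, h.eq_one (mul_mem ha ha) (k := l) ?_ ((h.ker _ (le_normalizer (mul_mem ha ha))).1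
    (by rw [h.mul a (le_normalizer ha) a (le_normalizer ha), e])), rfl⟩
  rw [(Commute.refl a).mul_pow, hl, one_mul]

theorem lift_sub {Q : Subgroup Ω} (hQ : Q ≤ Γ0) (h2 : IsPGroup 2 Q) :
    ∃ P ≤ A, IsPGroup 2 P ∧ Nat.card P = Nat.card Q ∧
      (∀ a, a ∈ P ↔ a ∈ A ∧ ρ a ∈ Q ∧ ∃ k, a ^ 2 ^ k = 1) ∧ ∀ γ ∈ Q, ∃ a ∈ P, ρ a = γ := by
  have hY : ∀ a, a ∈ A ⊓ (Q.comap h.hom).map (Ns A).subtype ↔ a ∈ A ∧ ρ a ∈ Q := fun a =>
    ⟨fun ⟨h1, _, h3, e⟩ => ⟨h1, e ▸ h3⟩, fun ⟨h1, h3⟩ => ⟨h1, ⟨a, le_normalizer h1⟩, h3, rfl⟩⟩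
  obtain ⟨P, p1, p2, -⟩ := exists_two_part (Y := A ⊓ (Q.comap h.hom).map (Ns A).subtype) h.odd
    (fun y hy o ho => (StdSz.mem_Cs.1 ho.2 y hy.1).symm) fun y hy => by
      obtain ⟨k, hk⟩ := pow_of_two h2 ((hY y).1 hy).2
      exact ⟨k, pow_mem hy.1 _, (h.ker _ (le_normalizer (pow_mem hy.1 _))).1
        ((h.pow (le_normalizer hy.1) _).trans hk)⟩
  simp only [hY, and_assoc] at p2
  have hP : P ≤ A := fun a ha => ((p2 a).1 ha).1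
  have hs : ∀ γ ∈ Q, ∃ a ∈ P, ρ a = γ := fun γ hγ => by
    obtain ⟨k, hk⟩ := pow_of_two h2 hγ
    obtain ⟨a, ha, rfl, hl⟩ := h.lift_p Nat.prime_two (hQ hγ) hk
    exact ⟨a, (p2 a).2 ⟨ha, hγ, hl⟩, rfl⟩
  refine ⟨P, hP, p1, ?_, p2, hs⟩
  have e1 : P ⊓ Cs A = ⊥ := eq_bot_iff.2 fun a ha =>
    let ⟨h1, _, _, h3⟩ := (p2 a).1 ha.1; mem_bot.2 (h.eq_one h1 h3 ha.2)
  have e2 : h.img P = Q := Subgroup.ext fun γ => h.mem_img.trans ⟨fun ⟨a, ha, _, e⟩ =>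
    e ▸ ((p2 a).1 ha).2.1, fun hγ => let ⟨a, ha, e⟩ := hs γ hγ; ⟨a, ha, le_normalizer (hP ha), e⟩⟩
  rw [h.card_img (hP.trans le_normalizer), e1, e2, card_bot, one_mul]

theorem cls (b : Base Γ Γ0 T z) {a a' : G} (ha : a ∈ A) (ha' : a' ∈ A) (h2 : a * a = 1)
    (h2' : a' * a' = 1) (h1 : a ≠ 1) (h1' : a' ≠ 1) : ∃ g ∈ A, g * a * g⁻¹ = a' := by
  have k : ∀ {a}, a ∈ A → a * a = 1 → a ≠ 1 → ∃ g ∈ Γ0, g * z * g⁻¹ = ρ a := fun {a} ha h2 h1 =>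
    b.cls _ (h.mem a ha) (by rw [← h.mul a (le_normalizer ha) a (le_normalizer ha), h2, h.one]) fun e =>
      h1 (h.eq_one ha (k := 1) (by rw [pow_one, pow_two, h2]) ((h.ker a (le_normalizer ha)).1 e))
  obtain ⟨g, hg, e⟩ := k ha h2 h1
  obtain ⟨g', hg', e'⟩ := k ha' h2' h1'
  obtain ⟨c, hc, e''⟩ := h.surj _ (mul_mem hg' (inv_mem hg))
  exact ⟨c, hc, h.conj_eq (le_normalizer hc) ha ha' (k := 1) (l := 1) (by rw [pow_one, pow_two, h2])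
    (by rw [pow_one, pow_two, h2']) (by rw [e'', ← e, ← e']; group)⟩

end Mdl

theorem exists_mdl [Finite G] (b : Base Γ Γ0 T z) {B : Subgroup G} (φ : B →* Ω) (hr : φ.range = Γ0)
    (hp : B ≤ ⁅B, B⁆) (hk : φ.ker ≤ center B) (ho : Odd (Nat.card φ.ker)) :
    ∃ ρ : G → Ω, Mdl Γ Γ0 B ρ := by
  classical
  have hm : ∀ x : B, φ x ∈ Γ0 := fun x => hr.le ⟨x, rfl⟩
  have hz : ∀ x : B, φ x = 1 ↔ (x : G) ∈ Cs B := fun x => ⟨fun e => StdSz.mem_Cs.2 fun y hy =>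
    (congrArg Subtype.val (mem_center_iff.1 (hk e) ⟨y, hy⟩)).symm, fun e => b.cen (b.le (hm x))
      (StdSz.mem_Cs.2 fun γ hγ => by
        obtain ⟨y, rfl⟩ := hr.ge hγ
        exact (show Commute x y from Subtype.ext (StdSz.mem_Cs.1 e y y.2)).map φ)⟩
  have hs : Function.Surjective (φ.codRestrict Γ0 hm) := fun γ =>
    let ⟨x, e⟩ := hr.ge γ.2; ⟨x, Subtype.ext e⟩
  have ex : ∀ n : Ns B, ∃ g ∈ Γ, ∀ x : B, φ (B.normalizerMonoidHom n x) = g * φ x * g⁻¹ := fun n => by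
    have hk' : ∀ n : Ns B, (φ.codRestrict Γ0 hm).ker ≤ ((φ.codRestrict Γ0 hm).comp
        (B.normalizerMonoidHom n).toMonoidHom).ker := fun n x hx => Subtype.ext ((hz _).2
      (mem_normalizer_conj (normalizer_le_normalizer_centralizer B n.2) ((hz x).1 (congrArg Subtype.val hx))))
    let f := fun n => (φ.codRestrict Γ0 hm).liftOfSurjective hs ⟨_, hk' n⟩
    have hf : ∀ n x, f n (φ.codRestrict Γ0 hm x) = φ.codRestrict Γ0 hm (B.normalizerMonoidHom n x) :=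
      fun n x => MonoidHom.liftOfRightInverse_comp_apply _ _ _ _ x
    have hi : ∀ n y, f n⁻¹ (f n y) = y := fun n y => by
      obtain ⟨x, rfl⟩ := hs y
      rw [hf, hf, ← MulAut.mul_apply, ← map_mul, inv_mul_cancel, map_one, MulAut.one_apply]
    obtain ⟨g, hg, e⟩ := b.aut ⟨⟨f n, f n⁻¹, hi n, fun y => by simpa using hi n⁻¹ y⟩, (f n).map_mul⟩
    exact ⟨g, hg, fun x => (congrArg Subtype.val (hf n x)).symm.trans (e _)⟩
  choose r r1 r2 using ex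
  have un : ∀ (n : Ns B) (g : Ω), g ∈ Γ → (∀ x : B, φ (B.normalizerMonoidHom n x) = g * φ x * g⁻¹) →
      r n = g := fun n g hg e => (inv_mul_eq_one.1 (b.cen (mul_mem (inv_mem hg) (r1 n))
    (StdSz.mem_Cs.2 fun γ hγ => by
      obtain ⟨y, rfl⟩ := hr.ge hγ
      refine commute_of_conj_eq ?_
      calc _ = g⁻¹ * (r n * φ y * (r n)⁻¹) * g := by group
        _ = _ := by rw [← r2, e]; group))).symm
  have rb : ∀ x : B, r ⟨x, le_normalizer x.2⟩ = φ x := fun x => un _ _ (b.le (hm x)) fun y => by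
    rw [← map_inv, ← map_mul, ← map_mul]; rfl
  refine ⟨fun x => if hx : x ∈ Ns B then r ⟨x, hx⟩ else 1, fun x hx y hy => ?_, fun x hx => ?_,
    fun x hx => ?_, fun a ha => ?_, fun γ hγ => ?_, hp, ?_⟩
  · rw [dif_pos hx, dif_pos hy, dif_pos (mul_mem hx hy)]
    refine un _ _ (mul_mem (r1 _) (r1 _)) fun a => ?_
    rw [show (⟨x * y, mul_mem hx hy⟩ : Ns B) = ⟨x, hx⟩ * ⟨y, hy⟩ from rfl, map_mul, MulAut.mul_apply, r2, r2]
    group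
  · rw [dif_pos hx]
    refine ⟨fun e => ?_, fun e => un _ _ (one_mem _) fun a => ?_⟩
    · have h1 : ∀ a ∈ B, a⁻¹ * (x * a * x⁻¹) ∈ Cs B := fun a ha => by
        refine (hz ((⟨a, ha⟩ : B)⁻¹ * B.normalizerMonoidHom ⟨x, hx⟩ ⟨a, ha⟩)).1 ?_
        rw [map_mul, r2, e, map_inv]; group
      refine le_centralizer_iff.1 ((hp.trans (commutator_le.2 fun a ha a' ha' => StdSz.mem_Cs.2 ?_)) :
        B ≤ Cs (zpowers x)) (mem_zpowers x)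
      rintro _ ⟨i, rfl⟩
      refine (commute_of_conj_eq ?_).symm.zpow_right i
      have c := StdSz.mem_Cs.1 (h1 a ha)
      have c' := StdSz.mem_Cs.1 (h1 a' ha')
      have e1 := mem_normalizer_conj hx ha'
      calc _ = a * (a⁻¹ * (x * a * x⁻¹) * (x * a' * x⁻¹)) * (x * a * x⁻¹)⁻¹ * (x * a' * x⁻¹)⁻¹ := by
            rw [commutatorElement_def]; group
        _ = a * a' * (a'⁻¹ * (x * a' * x⁻¹) * a⁻¹) * (x * a' * x⁻¹)⁻¹ := by rw [(c _ e1).eq]; group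
        _ = _ := by rw [(c' _ (inv_mem ha)).eq, commutatorElement_def]; group
    · rw [one_mul, inv_one, mul_one]
      exact congrArg φ (Subtype.ext (by
        change x * a * x⁻¹ = a
        rw [(StdSz.mem_Cs.1 e a a.2).eq, mul_inv_cancel_right]))
  · rw [dif_pos hx]; exact r1 _
  · rw [dif_pos (le_normalizer ha)]; exact (rb ⟨a, ha⟩).symm ▸ hm _
  · obtain ⟨x, rfl⟩ := hr.ge hγ
    exact ⟨x, x.2, by rw [dif_pos (le_normalizer x.2)]; exact rb x⟩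
  · rwa [← Nat.card_congr (subgroupOfEquivOfLe inf_le_left).toEquiv,
      show (B ⊓ Cs B).subgroupOf B = φ.ker from Subgroup.ext fun x =>
        ⟨fun e => (hz x).2 e.2, fun e => ⟨x.2, (hz x).1 e⟩⟩]

theorem exists_fam [Finite G] {A O : Subgroup G} {ρ : G → Ω} {t : G}
    (b : Base Γ Γ0 T z) (h : Mdl Γ Γ0 A ρ) {ζ v : G} (hζ : ζ ∈ A) (h2 : ζ * ζ = 1)
    (e : ρ ζ = z) (h1 : v * v = 1) (h3 : v * t * v = t * ζ) (h4 : v ∈ Cs O) (h5 : v ∈ Cs (A ⊓ C1 ζ))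
    (ht : t ∈ Cs A) (hO : O ≤ Cs A) : ∃ v, Fam A O t v := by
  classical
  have z1 : ζ ≠ 1 := fun c => b.z1 (by rw [← e, c, h.one])
  have ind : ∀ g ∈ A, ∀ k ∈ A, g * ζ * g⁻¹ = k * ζ * k⁻¹ → g * v * g⁻¹ = k * v * k⁻¹ :=
    fun g hg k hk c => by
      have := (mem_Cs.1 h5 (k⁻¹ * g) ⟨A.mul_mem (A.inv_mem hk) hg, mem_C1.2 (by
        calc k⁻¹ * g * ζ = k⁻¹ * (g * ζ * g⁻¹) * g := by group
          _ = _ := by rw [c]; group)⟩).eq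
      calc g * v * g⁻¹ = k * (k⁻¹ * g * v) * g⁻¹ := by group
        _ = _ := by rw [← this]; group
  obtain ⟨w, w1, hw⟩ : ∃ w : G → G, w 1 = 1 ∧ ∀ g ∈ A, w (g * ζ * g⁻¹) = g * v * g⁻¹ := by
    refine ⟨fun a => if c : ∃ g ∈ A, g * ζ * g⁻¹ = a then c.choose * v * c.choose⁻¹ else 1,
      dif_neg fun ⟨g, _, c⟩ => z1 (conj_eq_one_iff.1 c), fun g hg => ?_⟩
    have c : ∃ k ∈ A, k * ζ * k⁻¹ = g * ζ * g⁻¹ := ⟨g, hg, rfl⟩
    exact (dif_pos c).trans (ind _ c.choose_spec.1 _ hg c.choose_spec.2)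
  have cs : ∀ a ∈ A, a * a = 1 → a = 1 ∨ ∃ g ∈ A, g * ζ * g⁻¹ = a := fun a ha a2 =>
    or_iff_not_imp_left.2 fun a1 => h.cls b hζ ha h2 a2 z1 a1
  refine ⟨w, w1, fun a ha a2 => ?_, fun a ha a2 => ?_, fun a ha a2 => ?_, fun a ha a2 => ?_,
    fun a ha a2 k hk => ?_⟩ <;> rcases cs a ha a2 with rfl | ⟨g, hg, rfl⟩
  · rw [w1, mul_one]
  · rw [hw g hg, conj_mul, h1]; simp
  · rw [w1]; simp
  · have c := (mem_Cs.1 ht g hg).eq
    have c' : g * t * g⁻¹ = t := by rw [← c, mul_inv_cancel_right]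
    rw [hw g hg]
    calc g * v * g⁻¹ * t * (g * v * g⁻¹) = g * v * g⁻¹ * (g * t * g⁻¹) * (g * v * g⁻¹) := by rw [c']
      _ = g * (v * t * v) * g⁻¹ := by group
      _ = _ := by rw [h3, ← conj_mul, c']
  · rw [w1]; exact one_mem _
  · rw [hw g hg]
    have : g ∈ Cs O := mem_Cs.2 fun o ho => (mem_Cs.1 (hO ho) g hg).symm
    exact mul_mem (mul_mem this h4) (inv_mem this)
  · rw [w1]; exact one_mem _
  · rw [hw g hg]
    refine mem_Cs.2 fun x hx => ?_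
    have := (mem_Cs.1 h5 (g⁻¹ * x * g) ⟨A.mul_mem (A.mul_mem (A.inv_mem hg) hx.1) hg, mem_C1.2 (by
      calc g⁻¹ * x * g * ζ = g⁻¹ * (x * (g * ζ * g⁻¹)) * g := by group
        _ = _ := by rw [(mem_C1.1 hx.2).eq]; group)⟩).eq
    calc g * v * g⁻¹ * x = g * (v * (g⁻¹ * x * g)) * g⁻¹ := by group
      _ = _ := by rw [this]; group
  · simp [w1]
  · rw [show k * (g * ζ * g⁻¹) * k⁻¹ = k * g * ζ * (k * g)⁻¹ by group, hw _ (mul_mem hk hg), hw g hg]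
    group

end Cfsg.Lib.StdG
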