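import Cfsg.Agent.StdG.Basic

/-!
# Standard subgroups of type `G₂(3)`: basic facts on the clean configuration
-/

set_option autoImplicit false

namespace Cfsg.Lib.StdG

open Subgroup Cfsg.Lib.Gold Cfsg.Lib.Trans Cfsg.Lib.StdSz
open scoped commutatorElement

variable {G : Type*} [Group G] {A : Subgroup G} {E : El G} {t v y : G}

theorem ρσ_mul : ∀ x y : S4, ρσ (x * y) = ρσ x * ρσ y := by decide +kernel
theorem ρσ_ρσ : ∀ x : S4, ρσ (ρσ x) = x := by decide +kernel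
theorem ρr_mul : ∀ x ∈ D0, ∀ y ∈ D0, ρr (x * y) = ρr x * ρr y := by decide +kernel
theorem ρr_D0 : ∀ x ∈ D0, ρr x ∈ D0 := by decide +kernel
theorem δ1_B0 : ∀ x ∈ B0, δ1 x ∈ B0 := by decide +kernel
theorem δ2_B0 : ∀ x ∈ B0, δ2 x ∈ B0 := by decide +kernel
theorem δf_V0 : ∀ x ∈ V0, δf x ∈ V0 := by decide +kernel
theorem z0_comm : ∀ x : S4, z0 * x = x * z0 := by decide +kernel
theorem B0_conj : ∀ x ∈ B0, ∀ g : S4, g * x * g⁻¹ ∈ B0 := by decide +kernel
theorem U0_conj : ∀ x ∈ U0, ∀ g : S4, g * x * g⁻¹ ∈ U0 := by decide +kernel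
theorem V0_conj : ∀ x ∈ V0, ∀ g : S4, g * x * g⁻¹ ∈ V0 := by decide +kernel
theorem card_S4 : Nat.card S4 = 64 := by rw [G2T.GM.card, Nat.card_zmod]
theorem two_S4 : IsPGroup 2 S4 := IsPGroup.of_card (n := 6) card_S4

theorem inv2 {x : G} (h : x * x = 1) : x⁻¹ = x := inv_eq_of_mul_eq_one_right h

/-- The product of the four lines missing a point of the Fano plane. -/
theorem fano (x : ℕ → G) (c : ∀ i j, Commute (x i) (x j)) :
    x 1 * x 2 * x 4 * (x 2 * x 3 * x 5) * (x 3 * x 4 * x 6) * (x 5 * x 6 * x 1) =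
      x 1 * x 1 * (x 2 * x 2) * (x 3 * x 3) * (x 4 * x 4) * (x 5 * x 5) * (x 6 * x 6) := by
  have l : ∀ i j y, x i * (x j * y) = x j * (x i * y) := fun i j y => (c i j).left_comm y
  simp only [mul_assoc]
  rw [← (c 1 6).eq]
  simp only [l 6 1, l 5 1, l 4 1, l 3 1, l 2 1, l 4 2, l 4 3, l 5 3, l 5 4, l 6 5, l 6 4, l 6 3]

namespace Com

variable (c : Com A E)
include c

theorem zz : E.z * E.z = 1 := by
  rw [← map_mul, show z0 * z0 = 1 by decide, map_one]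

theorem ne {x y : S4} (h : x ≠ y) : E.φ x ≠ E.φ y := c.inj.ne h

theorem z1 : E.z ≠ 1 := by rw [← map_one E.φ]; exact c.ne (by decide)

omit c in
theorem φz (x : S4) : Commute (E.φ x) E.z := by
  rw [Commute, SemiconjBy, ← map_mul, ← z0_comm, map_mul]

omit c in
theorem φ_conj (g x : S4) : E.φ g * E.φ x * (E.φ g)⁻¹ = E.φ (g * x * g⁻¹) := by simp

theorem dz : Commute E.d E.z := commute_of_conj_eq
  ((c.dB z0 (by decide)).trans (congrArg E.φ (by decide +kernel)))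

theorem ez : Commute E.e E.z := commute_of_conj_eq
  ((c.eB z0 (by decide)).trans (congrArg E.φ (by decide +kernel)))

theorem B_le : E.B ≤ A := by rintro _ ⟨x, -, rfl⟩; exact c.φA x

theorem U_le : E.U ≤ A := by rintro _ ⟨x, -, rfl⟩; exact c.φA x

theorem range_le : E.φ.range ≤ A := by rintro _ ⟨x, rfl⟩; exact c.φA x

theorem DD_le : E.DD ≤ A ⊓ C1 E.z := sup_le (by
    rintro _ ⟨x, -, rfl⟩; exact ⟨c.φA x, mem_C1.2 (φz x)⟩)
  ((closure_le _).2 (by
    rintro x (rfl | rfl)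
    exacts [⟨c.dA, mem_C1.2 c.dz⟩, ⟨c.eA, mem_C1.2 c.ez⟩]))

theorem two_range : IsPGroup 2 E.φ.range := by
  rw [MonoidHom.range_eq_map]; exact (two_S4.to_subgroup ⊤).map _

theorem card_range : Nat.card E.φ.range = 64 := by
  rw [← Nat.card_congr (MonoidHom.ofInjective c.inj).toEquiv, card_S4]

/-- `DD` is transitive on the non-central involutions of `B` -/
theorem trB {x : S4} (hx : x ∈ B0) (h2 : x * x = 1) (h1 : x ≠ 1) (hz : x ≠ z0) :
    ∃ g ∈ E.DD, g * E.φ x0 * g⁻¹ = E.φ x := by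
  have key : ∀ x ∈ B0, x * x = 1 → x ≠ 1 → x ≠ z0 → ∃ g ∈ B0, ∃ i : Fin 3, ∃ j : Fin 3,
      g * δ1^[i] (δ2^[j] x0) * g⁻¹ = x := by decide +kernel
  obtain ⟨g, hg, i, j, rfl⟩ := key x hx h2 h1 hz
  have k : ∀ (u : G) (δ : S4 → S4), (∀ x ∈ B0, δ x ∈ B0) → (∀ x ∈ B0, u * E.φ x * u⁻¹ = E.φ (δ x)) →
      ∀ n : ℕ, ∀ x ∈ B0, δ^[n] x ∈ B0 ∧ u ^ n * E.φ x * (u ^ n)⁻¹ = E.φ (δ^[n] x) := by
    intro u δ h1 h2 n
    induction n with
    | zero => exact fun x hx => ⟨hx, by simp⟩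
    | succ n ih =>
      intro x hx
      rw [Function.iterate_succ_apply']
      refine ⟨h1 _ (ih x hx).1, ?_⟩
      rw [← h2 _ (ih x hx).1, ← (ih x hx).2, pow_succ']; group
  have k2 := k _ _ δ2_B0 c.eB j x0 (by decide)
  have k1 := k _ _ δ1_B0 c.dB i _ k2.1
  refine ⟨E.φ g * E.d ^ (i : ℕ) * E.e ^ (j : ℕ), mul_mem (mul_mem (mem_sup_left (mem_map_of_mem _ hg))
    (pow_mem (mem_sup_right (subset_closure (by simp))) _))
    (pow_mem (mem_sup_right (subset_closure (by simp))) _), ?_⟩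
  rw [← φ_conj, ← k1.2, ← k2.2]; group

variable [Finite G]

theorem Cz_le : A ⊓ C1 E.z ≤ Ns E.B := c.cz.trans ((closure_le _).2 (by
  rintro x (rfl | rfl | rfl) <;> refine mem_Ns ?_ <;> rintro _ ⟨x, hx, rfl⟩
  · exact ⟨_, B0_conj x hx a0, (φ_conj _ _).symm⟩
  · exact ⟨_, δ1_B0 x hx, (c.dB x hx).symm⟩
  · exact ⟨_, δ2_B0 x hx, (c.eB x hx).symm⟩))

end Com

namespace Cl

variable (c : Cl A E t)
include c

theorem t_not : t ∉ A := fun h => c.nc t h (IsConj.refl t)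

theorem t1 : t ≠ 1 := fun h => c.t_not (h ▸ one_mem A)

theorem ti : t⁻¹ = t := inv2 c.tt

theorem ta {a : G} (ha : a ∈ A) : Commute t a := mem_Cs.1 c.tA a ha

theorem tφ (x : S4) : Commute t (E.φ x) := c.ta (c.φA x)

theorem A_le : A ≤ C1 t := fun _ ha => mem_C1.2 (c.ta ha).symm

theorem cN : C1 t ≤ Ns A := fun x hx => by
  have h := StdJ4.Cs_le_Ns A c.tA
  obtain ⟨l, hl, rfl | rfl | rfl | rfl⟩ := c.Ct x hx
  exacts [le_normalizer hl, mul_mem (le_normalizer hl) h, mul_mem (le_normalizer hl) c.σN,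
    mul_mem (mul_mem (le_normalizer hl) c.σN) h]

theorem fus {l : G} (hl : l ∈ A) (h2 : l * l = 1) : IsConj t (t * l) := by
  by_cases h1 : l = 1
  · rw [h1, mul_one]
  obtain ⟨g, hg, rfl⟩ := c.cls l hl h2 h1
  obtain ⟨y, -, e⟩ := c.fz
  exact isConj_iff.2 ⟨g * y, by
    rw [show g * y * t * (g * y)⁻¹ = g * (y * t * y⁻¹) * g⁻¹ by group, e, ← mul_assoc,
      ← (c.ta hg).eq]; group⟩

theorem σz : Commute E.σ E.z := by
  rcases c.σS with h | h
  · rw [h]; exact Commute.one_left _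
  · exact commute_of_conj_eq ((h z0).trans (congrArg E.φ (by decide)))

/-- squares of elements of `C(t)` -/
theorem sq_mem {x : G} (hx : x ∈ C1 t) : x * x ∈ A ∨ x * x * t ∈ A := by
  have k : ∀ l ∈ A, ∀ s, s ∈ Ns A → (s * s = 1 ∨ s * s = t) →
      l * s * (l * s) ∈ A ∨ l * s * (l * s) * t ∈ A := fun l hl s hs h => by
    have h1 := mul_mem hl (mem_normalizer_conj hs hl)
    rw [show l * s * (l * s) = l * (s * l * s⁻¹) * (s * s) by group]
    rcases h with h | h <;> rw [h]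
    · exact .inl (by rwa [mul_one])
    · exact .inr (by rwa [mul_assoc, c.tt, mul_one])
  have h := StdJ4.Cs_le_Ns A c.tA
  obtain ⟨l, hl, rfl | rfl | rfl | rfl⟩ := c.Ct x hx
  · exact .inl (mul_mem hl hl)
  · exact k l hl t h (.inl c.tt)
  · exact k l hl _ c.σN c.σσ
  · rw [mul_assoc l]
    refine k l hl _ (mul_mem c.σN h) ?_
    rw [c.σt.symm.mul_mul_mul_comm, c.tt, mul_one]; exact c.σσ

theorem four_mem {x : G} (hx : x ∈ C1 t) : x ^ 4 ∈ A := by
  rw [show x ^ 4 = x * x * (x * x) by simp only [pow_succ, pow_zero, one_mul, mul_assoc]]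
  rcases c.sq_mem hx with h | h
  · exact mul_mem h h
  · have := mul_mem h h
    rwa [(mem_C1.1 ((C1 t).mul_mem hx hx)).symm.mul_mul_mul_comm, c.tt, mul_one] at this

theorem cBz {x : G} (hx : x ∈ C1 t) (hB : x ∈ Cs E.B) :
    x = 1 ∨ x = E.z ∨ x = t ∨ x = t * E.z := by
  have hc : ∀ y ∈ B0, Commute x (E.φ y) := fun y hy => mem_Cs.1 hB _ (mem_map_of_mem _ hy)
  have k : ∀ u ∈ B0, (∀ y ∈ B0, Commute (E.φ u) (E.φ y)) → E.φ u = 1 ∨ E.φ u = E.z := fun u hu h => by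
    have : ∀ u ∈ B0, (∀ y ∈ B0, u * y = y * u) → u = 1 ∨ u = z0 := by decide +kernel
    rcases this u hu fun y hy => c.inj (by simpa using (h y hy).eq) with rfl | rfl <;> simp
  rcases c.cB x hx ⟨hc z0 (by decide), by
    rintro y (rfl | rfl | rfl) <;> exact .inl (conj_eq_of_commute (hc _ (by decide)))⟩ with
    ⟨u, hu, e⟩ | ⟨u, hu, e⟩
  · rcases k u hu (e ▸ hc) with h | h <;> simp [← e, h]
  · have e' : x = E.φ u * t := by rw [e, mul_assoc, c.tt, mul_one]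
    rcases k u hu fun y hy => e ▸ (hc y hy).mul_left (c.tφ y) with h | h
    · exact .inr (.inr (.inl (by rw [e', h, one_mul])))
    · exact .inr (.inr (.inr (by rw [e', h, (c.tφ z0).eq])))

variable [Finite G]

/-- elements of odd order of `C(t)` lie in `A` -/
theorem oA {x : G} (hx : x ∈ C1 t) (ho : Odd (orderOf x)) : x ∈ A := by
  obtain ⟨m, e⟩ := exists_root_of_odd ho 2
  rw [← e, ← pow_mul, mul_comm, pow_mul]
  exact pow_mem (c.four_mem hx) m

/-- the normaliser of `⟨t, z⟩` normalises `DD` -/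
theorem nDD (h1 : Commute y E.z) (h2 : y * t * y⁻¹ = t ∨ y * t * y⁻¹ = t * E.z) :
    y ∈ Ns E.DD := by
  refine mem_normalizer_of_cj_le (cj_le_iff_le_cj_inv.2 (c.gD.trans ((closure_le _).2 ?_)))
  rintro x ⟨hx, ho⟩
  have h3 := mem_C1.1 (c.DD_le hx).2
  have h4 : Commute (y * x * y⁻¹) E.z := (h1.mul_left h3).mul_left h1.inv_left
  have h5 := commute_conj (c.ta (c.DD_le hx).1).symm y
  refine mem_cj_inv.2 (c.nD _ ⟨mem_C1.2 ?_, mem_C1.2 h4⟩ (by rwa [orderOf_conj_eq]))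
  rcases h2 with e | e <;> rw [e] at h5
  · exact h5
  · simpa [mul_assoc, c.zz] using h5.mul_right h4

/-- the normaliser of `⟨t, z⟩` normalises `B` -/
theorem nB (h1 : Commute y E.z) (h2 : y * t * y⁻¹ = t ∨ y * t * y⁻¹ = t * E.z) : y ∈ Ns E.B := by
  refine mem_Ns ?_
  rintro _ ⟨x, hx, rfl⟩
  obtain ⟨k, hk⟩ := two_S4 x
  exact c.tD _ (mem_normalizer_conj (c.nDD h1 h2) (mem_sup_left (mem_map_of_mem _ hx)))
    ⟨k, by rw [conj_pow, ← map_pow, hk, map_one]; group⟩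

end Cl

namespace Vv

variable (V : Vv E t v)
include V

theorem vi : v⁻¹ = v := inv2 V.vv

theorem vφ {x : S4} (hx : x ∈ B0) : Commute v (E.φ x) := mem_Cs.1 V.vB _ (mem_map_of_mem _ hx)

theorem vz : Commute v E.z := V.vφ (by decide)

variable [Finite G] (c : Cl A E t)
include c

/-- elements centralising `t` and `z` fix `v` modulo `z` -/
theorem conj {g : G} (h1 : Commute g t) (h2 : Commute g E.z) :
    g * v * g⁻¹ = v ∨ g * v * g⁻¹ = v * E.z := by
  have hN := c.nB h2 (.inl (conj_eq_of_commute h1))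
  have h3 : g * v * g⁻¹ ∈ Cs E.B := mem_normalizer_conj (normalizer_le_normalizer_centralizer _ hN) V.vB
  have h4 : g * v * g⁻¹ * t * (g * v * g⁻¹) = t * E.z := by
    rw [← conj_eq_of_commute h1, conj_mul, conj_mul, V.vt, ← conj_mul, conj_eq_of_commute h1,
      conj_eq_of_commute h2]
  have h5 : g * v * g⁻¹ * (g * v * g⁻¹) = 1 := by rw [conj_mul, V.vv]; group
  generalize g * v * g⁻¹ = w at h3 h4 h5
  have h6 : v * w ∈ C1 t := mem_C1.2 (commute_of_conj_eq (by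
    rw [mul_inv_rev, V.vi, inv2 h5, show v * w * t * (w * v) = v * (w * t * w) * v by group, h4,
      ← mul_assoc, mul_assoc _ E.z, ← V.vz.eq, ← mul_assoc, V.vt, mul_assoc, c.zz, mul_one]))
  have e : w = v * (v * w) := by rw [← mul_assoc, V.vv, one_mul]
  have h7 : v * t * (v * t) = E.z := by
    rw [← mul_assoc, V.vt, mul_assoc, ← (c.tφ z0).eq, ← mul_assoc, c.tt, one_mul]
  rcases c.cBz h6 (mul_mem V.vB h3) with h | h | h | h <;> rw [h] at e
  · exact .inl (by rw [e, mul_one])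
  · exact .inr e
  · exact absurd (by rw [← h7, ← e, h5]) c.z1
  · refine absurd ?_ c.z1
    rw [e, ← mul_assoc v t, (V.vz.mul_left (c.tφ z0)).symm.mul_mul_mul_comm, h7, c.zz, mul_one] at h5
    exact h5

theorem three {g : G} (h1 : Commute g t) (h2 : Commute g E.z) (h3 : g ^ 3 = 1) : Commute g v := by
  refine commute_of_conj_eq ((V.conj c h1 h2).resolve_right fun e => c.z1 ?_)
  have e2 : g * (v * E.z) * g⁻¹ = v := by
    rw [← conj_mul, e, conj_eq_of_commute h2, mul_assoc, c.zz, mul_one]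
  have : g ^ 3 * v * (g ^ 3)⁻¹ = v * E.z := by
    rw [show g ^ 3 * v * (g ^ 3)⁻¹ = g * (g * (g * v * g⁻¹) * g⁻¹) * g⁻¹ by
      simp only [pow_succ, pow_zero, one_mul, mul_assoc, mul_inv_rev], e, e2, e]
  rw [h3] at this
  simpa using this

theorem vDD : v ∈ Cs E.DD := le_centralizer_iff.1 (sup_le (le_centralizer_iff.1
    (zpowers_le.2 V.vB)) ((closure_le _).2 (by
  rintro x (rfl | rfl)
  · exact mem_Cs.2 fun _ ⟨i, e⟩ => e ▸ (V.three c (c.ta c.dA).symm c.dz c.d3).zpow_right i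
  · exact mem_Cs.2 fun _ ⟨i, e⟩ => e ▸ (V.three c (c.ta c.eA).symm c.ez c.e3).zpow_right i)) :
    E.DD ≤ Cs (zpowers v)) (mem_zpowers v)

end Vv

end Cfsg.Lib.StdG
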