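import Cfsg.Agent.StdG.Dg

/-!
# Standard subgroups with one class of involutions: commuting pairs of copies of `A`
-/

set_option autoImplicit false
set_option linter.unusedSectionVars false

namespace Cfsg.Lib.StdG

open Subgroup Cfsg.Lib.Gold Cfsg.Lib.Trans Cfsg.Lib.StdSz
open scoped commutatorElement

variable {G Ω : Type*} [Group G] [Group Ω] [Finite G] [Finite Ω] {Γ Γ0 T : Subgroup Ω} {z : Ω}
  {A O B : Subgroup G} {ρ ρ' : G → Ω} {t : G}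

theorem Cs_symm {B B' : Subgroup G} (hc : B ≤ Cs B') : B' ≤ Cs B := fun y hy =>
  mem_Cs.2 fun _ hx => (mem_Cs.1 (hc hx) y hy).symm

theorem Mdl.half (b : Base Γ Γ0 T z) (o : Out Γ Γ0) (m : Mdl Γ Γ0 B ρ) {y : G} (hy : y * y = 1)
    (h1 : y ∈ Ns B) : ∃ Q ≤ B ⊓ C1 y, IsPGroup 2 Q ∧
      ((ρ y ∈ Γ0 ∧ Nat.card Q = 64) ∨ (ρ y ∉ Γ0 ∧ Nat.card Q = 8 ∧ ∀ a ∈ Q, a * a = 1)) := by
  have hs : ρ y * ρ y = 1 := by rw [← m.mul y h1 y h1, hy, m.one]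
  have key : ∀ Q0 ≤ Γ0 ⊓ C1 (ρ y), ∀ n, Nat.card Q0 = 2 ^ n → ∃ Q ≤ B ⊓ C1 y, IsPGroup 2 Q ∧
      Nat.card Q = 2 ^ n ∧ ((∀ a ∈ Q0, a * a = 1) → ∀ a ∈ Q, a * a = 1) := by
    intro Q0 hQ n hn
    obtain ⟨P, hP, h2, hc, hm, -⟩ := m.lift_sub (hQ.trans inf_le_left) (IsPGroup.of_card hn)
    refine ⟨P, fun a ha => ⟨hP ha, ?_⟩, h2, hc.trans hn, fun h a ha => ?_⟩ <;>
      obtain ⟨ha1, ha2, k, hk⟩ := (hm a).1 ha
    · exact mem_C1.2 (m.comm_of h1 ha1 hk (mem_C1.1 (hQ ha2).2).symm).symm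
    · exact m.eq_one (mul_mem ha1 ha1) (k := k) (by rw [(Commute.refl a).mul_pow, hk, one_mul])
        ((m.ker _ (le_normalizer (mul_mem ha1 ha1))).1 (by
          rw [m.mul _ (le_normalizer ha1) _ (le_normalizer ha1), h _ ha2]))
  by_cases h0 : ρ y ∈ Γ0
  · obtain ⟨Q0, hQ, hc⟩ := b.exists_64 h0 hs
    obtain ⟨Q, q1, q2, q3, -⟩ := key Q0 hQ 6 hc
    exact ⟨Q, q1, q2, Or.inl ⟨h0, q3⟩⟩
  · obtain ⟨Q0, hQ, hc, he⟩ := o.low _ (m.memΓ y h1) h0 hs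
    obtain ⟨Q, q1, q2, q3, q4⟩ := key Q0 hQ 3 hc
    exact ⟨Q, q1, q2, Or.inr ⟨h0, q3, q4 he⟩⟩

theorem Mdl.inf_bot (m : Mdl Γ Γ0 B ρ) {B' Q1 Q2 : Subgroup G} (hc : B ≤ Cs B') (h1 : Q1 ≤ B)
    (h2 : Q2 ≤ B') (hp : IsPGroup 2 Q1) : Q1 ⊓ Q2 = ⊥ := by
  rw [eq_bot_iff]
  intro x hx
  obtain ⟨k, hk⟩ := hp ⟨x, hx.1⟩
  exact m.eq_one (h1 hx.1) (k := k) (by simpa using congrArg Subtype.val hk) (Cs_symm hc (h2 hx.2))

theorem Mdl.sup_inner (m : Mdl Γ Γ0 B ρ) {B' : Subgroup G} (hc : B ≤ Cs B') {x : G}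
    (hx : x ∈ B ⊔ B') : ρ x ∈ Γ0 := by
  have hN : B' ≤ Ns B := (Cs_symm hc).trans (StdJ4.Cs_le_Ns B)
  obtain ⟨u, hu, v, hv, rfl⟩ := (Solv.PG.mem_sup_iff_of_le_normalizer hN).1 hx
  rw [m.mul u (le_normalizer hu) v (hN hv), (m.ker v (hN hv)).2 (Cs_symm hc hv), mul_one]
  exact m.mem u hu

/-- StdG/EndA.lean: lower bounds for centralisers of involutions normalising a commuting pair -/
theorem low_bound (b : Base Γ Γ0 T z) (o : Out Γ Γ0) {B B' : Subgroup G} {σ σ' : G → Ω}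
    (m : Mdl Γ Γ0 B σ) (m' : Mdl Γ Γ0 B' σ') (hc : B ≤ Cs B') {y : G} (hy : y * y = 1)
    (h1 : y ∈ Ns B) (h2 : y ∈ Ns B') : ∃ Q ≤ (B ⊔ B' ⊔ zpowers y) ⊓ C1 y, IsPGroup 2 Q ∧
      128 ≤ Nat.card Q ∧ (σ y ∈ Γ0 → 512 ≤ Nat.card Q) := by
  obtain ⟨Q1, p1, p2, p3⟩ := m.half b o hy h1
  obtain ⟨Q2, q1, q2, q3⟩ := m'.half b o hy h2
  have hB1 : Q1 ≤ B := p1.trans inf_le_left
  have hB2 : Q2 ≤ B' := q1.trans inf_le_left
  have hN : Q2 ≤ Ns Q1 :=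
    hB2.trans ((Cs_symm hc).trans ((StdJ4.Cs_anti hB1).trans (StdJ4.Cs_le_Ns Q1)))
  have hcard : Nat.card ↥(Q1 ⊔ Q2) = Nat.card Q1 * Nat.card Q2 := by
    have := Solv.PG.card_sup_mul_card_inf hN
    rwa [m.inf_bot hc hB1 hB2 p2, card_bot, mul_one] at this
  have hC : Q1 ⊔ Q2 ≤ C1 y := sup_le (p1.trans inf_le_right) (q1.trans inf_le_right)
  have hS : Q1 ⊔ Q2 ≤ B ⊔ B' := sup_le_sup hB1 hB2
  have hle : Q1 ⊔ Q2 ≤ (B ⊔ B' ⊔ zpowers y) ⊓ C1 y := le_inf (hS.trans le_sup_left) hC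
  have big : ∀ n, 9 ≤ n → Nat.card ↥(Q1 ⊔ Q2) = 2 ^ n → ∃ Q ≤ (B ⊔ B' ⊔ zpowers y) ⊓ C1 y,
      IsPGroup 2 Q ∧ 128 ≤ Nat.card Q ∧ (σ y ∈ Γ0 → 512 ≤ Nat.card Q) := by
    intro n hn e
    have : 2 ^ 9 ≤ 2 ^ n := Nat.pow_le_pow_right (by norm_num) hn
    exact ⟨_, hle, IsPGroup.of_card e, by omega, fun _ => by omega⟩
  rcases p3 with ⟨-, p4⟩ | ⟨p3, p4, -⟩
  · rcases q3 with ⟨-, q4⟩ | ⟨-, q4, -⟩
    · exact big 12 (by norm_num) (by rw [hcard, p4, q4]; norm_num)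
    · exact big 9 (by norm_num) (by rw [hcard, p4, q4]; norm_num)
  rcases q3 with ⟨-, q4⟩ | ⟨-, q4, -⟩
  · exact big 9 (by norm_num) (by rw [hcard, p4, q4]; norm_num)
  have hyN : y ∈ Ns (Q1 ⊔ Q2) :=
    StdJ4.Cs_le_Ns _ (mem_Cs.2 fun x hx => (mem_C1.1 (hC hx)).symm)
  have hyn : y ∉ Q1 ⊔ Q2 := fun h => p3 (m.sup_inner hc (hS h))
  have e := Solv.PG.card_sup_zpowers Nat.prime_two hyN hyn (by rw [pow_two, hy]; exact one_mem _)
  rw [hcard, p4, q4] at e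
  refine ⟨Q1 ⊔ Q2 ⊔ zpowers y, le_inf (sup_le_sup_right hS _) (sup_le hC ?_),
    IsPGroup.of_card (n := 7) (by rw [e]; norm_num), by omega, fun h => absurd h p3⟩
  rw [zpowers_le]
  exact mem_C1.2 (Commute.refl y)

theorem St.card_le (s : St A O t) (b : Base Γ Γ0 T z) (h : Mdl Γ Γ0 A ρ) {Q : Subgroup G}
    (hQ : Q ≤ C1 t) (h2 : IsPGroup 2 Q) : Nat.card Q ≤ 256 := by
  have e := h.card_img (hQ.trans s.cN)
  have h3 := b.two_le (h.img_le Q) (h.two_img h2)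
  have h4 : Q ⊓ Cs A ≤ zpowers t := by
    intro c hc
    obtain ⟨k, hk⟩ := h2 ⟨c, hc.1⟩
    rcases s.two_elt hc.2 (hQ hc.1) (k := k) (by simpa using congrArg Subtype.val hk) with rfl | rfl
    · exact one_mem _
    · exact mem_zpowers _
  have h5 := StdJ4.card_le_of_le h4
  rw [Nat.card_zpowers, orderOf_eq_prime (p := 2) (by rw [pow_two, s.tt]) s.t1] at h5
  rw [e]
  calc _ ≤ 2 * 128 := Nat.mul_le_mul h5 h3
    _ = 256 := by norm_num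

/-- StdG/EndA.lean: `t` normalises no commuting pair -/
theorem not_norm (b : Base Γ Γ0 T z) (o : Out Γ Γ0) (h : Mdl Γ Γ0 A ρ) (s : St A O t)
    {B B' : Subgroup G} {σ σ' : G → Ω} (m : Mdl Γ Γ0 B σ) (m' : Mdl Γ Γ0 B' σ') (hc : B ≤ Cs B')
    (h1 : t ∈ Ns B) (h2 : t ∈ Ns B') : False := by
  by_cases i1 : σ t ∈ Γ0
  · obtain ⟨Q, q1, q2, -, q3⟩ := low_bound b o m m' hc s.tt h1 h2
    have := s.card_le b h (q1.trans inf_le_right) q2
    have := q3 i1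
    omega
  by_cases i2 : σ' t ∈ Γ0
  · obtain ⟨Q, q1, q2, -, q3⟩ := low_bound b o m' m (Cs_symm hc) s.tt h2 h1
    have := s.card_le b h (q1.trans inf_le_right) q2
    have := q3 i2
    omega
  obtain ⟨Q1, p1, p2, p3⟩ := m.half b o s.tt h1
  obtain ⟨Q2, q1, q2, q3⟩ := m'.half b o s.tt h2
  obtain ⟨-, p4, p5⟩ := p3.resolve_left fun e => i1 e.1
  obtain ⟨-, q4, q5⟩ := q3.resolve_left fun e => i2 e.1
  have hB1 : Q1 ≤ B := p1.trans inf_le_left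
  have hB2 : Q2 ≤ B' := q1.trans inf_le_left
  have hN : Q2 ≤ Ns Q1 :=
    hB2.trans ((Cs_symm hc).trans ((StdJ4.Cs_anti hB1).trans (StdJ4.Cs_le_Ns Q1)))
  have hC : Q1 ⊔ Q2 ≤ C1 t := sup_le (p1.trans inf_le_right) (q1.trans inf_le_right)
  have hS : Q1 ⊔ Q2 ≤ B ⊔ B' := sup_le_sup hB1 hB2
  have hp : IsPGroup 2 ↥(Q1 ⊔ Q2) := p2.to_sup_of_normal_left' q2 hN
  have inj : ∀ c ∈ Q1 ⊔ Q2, c ∈ Cs A → c = 1 := by
    intro c hc1 hc2
    obtain ⟨k, hk⟩ := hp ⟨c, hc1⟩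
    rcases s.two_elt hc2 (hC hc1) (k := k) (by simpa using congrArg Subtype.val hk) with e | rfl
    · exact e
    · exact absurd (m.sup_inner hc (hS hc1)) i1
  have cd : ∀ Q ≤ Q1 ⊔ Q2, Nat.card (h.img Q) = Nat.card Q := by
    intro Q hQ
    have e := h.card_img (hQ.trans (hC.trans s.cN))
    have : Q ⊓ Cs A = ⊥ := eq_bot_iff.2 fun c hc => inj c (hQ hc.1) hc.2
    rw [e, this, card_bot, one_mul]
  have hcard := Solv.PG.card_sup_mul_card_inf hN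
  rw [m.inf_bot hc hB1 hB2 p2, card_bot, mul_one, p4, q4, ← cd _ le_rfl] at hcard
  refine absurd (o.ind _ (h.img_le (Q1 ⊔ Q2)) fun γ hγ => ?_) (by omega)
  obtain ⟨x, hx, hxN, rfl⟩ := h.mem_img.1 hγ
  obtain ⟨u, hu, w, hw, rfl⟩ := (Solv.PG.mem_sup_iff_of_le_normalizer hN).1 hx
  rw [← h.mul _ hxN _ hxN, (mem_Cs.1 (hc (hB1 hu)) w (hB2 hw)).symm.mul_mul_mul_comm, p5 u hu,
    q5 w hw, mul_one, h.one]

theorem St.invol_mem (s : St A O t) (h : Mdl Γ Γ0 A ρ) {j : G} (hj : j ∈ C1 t) (h2 : j * j = 1)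
    (h0 : ρ j ∈ Γ0) : j ∈ A ⊔ zpowers t := by
  obtain ⟨a, ha, hc⟩ := (h.inner (s.cN hj)).1 h0
  have hat : Commute t a := mem_Cs.1 s.tA a ha
  have key : ∀ o ∈ O, a * a * (o * o) = 1 → o ∈ A := by
    intro o ho e
    obtain ⟨n, hn⟩ := exists_root_of_odd (odd_orderOf s.Oodd ho) 1
    have e2 : o * o = (a * a)⁻¹ := eq_inv_of_mul_eq_one_right e
    rw [← hn, pow_one, ← pow_mul, mul_comm n, pow_mul, pow_two, e2]
    exact A.pow_mem (A.inv_mem (A.mul_mem ha ha)) n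
  have hj' : j = a * (a⁻¹ * j) := by group
  rcases s.dec _ ⟨hc, (C1 t).mul_mem ((C1 t).inv_mem (mem_C1.2 hat.symm)) hj⟩ with ho | ⟨o, ho, e⟩
  · generalize a⁻¹ * j = o at ho hj'
    have hao : Commute o a := mem_Cs.1 (s.Ole ho).1 a ha
    have : o ∈ A := key o ho (by
      rw [← h2, hj']
      calc a * a * (o * o) = a * (a * o) * o := by group
        _ = a * (o * a) * o := by rw [hao.eq]
        _ = a * o * (a * o) := by group)
    rw [hj']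
    exact mem_sup_left (A.mul_mem ha this)
  · rw [e] at hj'
    have hao : Commute o a := mem_Cs.1 (s.Ole ho).1 a ha
    have hot : Commute o t := mem_C1.1 (s.Ole ho).2
    have : o ∈ A := key o ho (by
      have c1 : Commute a (t * o) := hat.symm.mul_right hao.symm
      have := h2
      rw [hj', ← pow_two, c1.mul_pow, hot.symm.mul_pow, pow_two t, s.tt, one_mul, pow_two,
        pow_two] at this
      exact this)
    rw [hj']
    exact mul_mem (mem_sup_left ha) (mul_mem (mem_sup_right (mem_zpowers t)) (mem_sup_left this))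

theorem cmm_mem_of_cent (ht : t ∈ Cs A) {u w : G} (hu : u ∈ A ⊔ zpowers t)
    (hw : w ∈ A ⊔ zpowers t) : ⁅u, w⁆ ∈ A := by
  have hN := StdJ4.Cs_le_Ns A ht
  obtain ⟨a, ha, n, rfl⟩ := (Solv.PG.mem_sup_zpowers_iff hN).1 hu
  obtain ⟨a', ha', n', rfl⟩ := (Solv.PG.mem_sup_zpowers_iff hN).1 hw
  have c1 : Commute (t ^ n) a' := (mem_Cs.1 ht a' ha').zpow_left n
  have c2 : Commute (t ^ n') a := (mem_Cs.1 ht a ha).zpow_left n'
  have c3 : Commute (t ^ n) (a' * t ^ n') := c1.mul_right (Commute.zpow_zpow_self t n n')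
  have e : ⁅a * t ^ n, a' * t ^ n'⁆ = ⁅a, a'⁆ := by
    calc ⁅a * t ^ n, a' * t ^ n'⁆
        = a * (t ^ n * (a' * t ^ n')) * (t ^ n)⁻¹ * a⁻¹ * (a' * t ^ n')⁻¹ := by
          rw [commutatorElement_def]; group
      _ = a * a' * (t ^ n' * a⁻¹) * (t ^ n')⁻¹ * a'⁻¹ := by rw [c3.eq]; group
      _ = ⁅a, a'⁆ := by rw [c2.inv_right.eq, commutatorElement_def]; group
  rw [e, commutatorElement_def]
  exact A.mul_mem (A.mul_mem (A.mul_mem ha ha') (A.inv_mem ha)) (A.inv_mem ha')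

theorem swap_aux (b : Base Γ Γ0 T z) (h : Mdl Γ Γ0 A ρ) (s : St A O t) (D : Dbl A O B t)
    {B' : Subgroup G} {σ : G → Ω} (m : Mdl Γ Γ0 B' σ) (hc : B' ≤ Cs (cj t B')) :
    B' ≤ B ∨ B' ≤ cj t B := by
  have w : Sw B' t := ⟨s.tt, hc⟩
  have w0 : Sw B t := ⟨s.tt, D.comm⟩
  have hN : ∀ x ∈ B', dg t x ∈ Ns A := fun x hx => s.cN (w.memC hx)
  -- the images act as inner automorphisms
  have h1 : ∀ x ∈ B', ρ (dg t x) ∈ Γ0 := by
    intro x hx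
    have : dg t x ∈ (Γ0.comap h.hom).map (Ns A).subtype := by
      refine w.of_perf m.perf (fun x hx y hy => ?_) hx
      have hm : ⁅dg t x, dg t y⁆ ∈ Ns A := by
        rw [commutatorElement_def]
        exact mul_mem (mul_mem (mul_mem (hN x hx) (hN y hy)) (inv_mem (hN x hx))) (inv_mem (hN y hy))
      refine ⟨⟨_, hm⟩, ?_, rfl⟩
      show ρ ⁅dg t x, dg t y⁆ ∈ Γ0
      rw [h.comm (hN x hx) (hN y hy)]
      exact b.cmm_mem (h.memΓ _ (hN x hx)) (h.memΓ _ (hN y hy))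
    obtain ⟨u, hu, e⟩ := this
    rw [← e]
    exact hu
  have h2 : ∀ x ∈ B', dg t x ∈ A ⊔ zpowers t := by
    have : B' ≤ w.pre (A ⊔ zpowers t) := m.gen_inv b fun a ha a2 =>
      w.mem_pre.2 ⟨ha, s.invol_mem h (w.memC ha) (w.sq ha a2) (h1 a ha)⟩
    exact fun x hx => (w.mem_pre.1 (this hx)).2
  have h3 : ∀ x ∈ B', dg t x ∈ A := fun x hx =>
    w.of_perf m.perf (fun x hx y hy => cmm_mem_of_cent s.tA (h2 x hx) (h2 y hy)) hx
  obtain ⟨y, hy, y2, y1⟩ := m.lift_z b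
  have ha1 : dg t y ≠ 1 := fun e => y1 ((m.ker y (le_normalizer hy)).2 (w.cent hy e))
  have h4 : ∀ x ∈ B', dg t x ∈ Cs A → σ x = 1 := by
    intro x hx hxA
    by_contra hne
    have hJ : B' ≤ w.pre (Cs A) := by
      refine m.le_of_normal b (fun g hg => ?_) hx (w.mem_pre.2 ⟨hx, hxA⟩) hne
      refine mem_normalizer_of_cj_le (cj_le_iff.2 fun u hu => ?_)
      obtain ⟨hu1, hu2⟩ := w.mem_pre.1 hu
      refine w.mem_pre.2 ⟨mul_mem (mul_mem hg hu1) (inv_mem hg), ?_⟩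
      rw [w.conjm hg hu1, ← (mem_Cs.1 hu2 _ (h3 g hg)).eq, mul_inv_cancel_right]
      exact hu2
    exact ha1 (h.eq_one (h3 y hy) (k := 1) (by rw [pow_one, pow_two, w.sq hy y2])
      (w.mem_pre.1 (hJ hy)).2)
  have h5 : A ≤ w.hom.range := by
    refine h.le_of_surj fun γ hγ => ?_
    choose f hf1 hf2 using m.surj
    let F : Γ0 → Γ0 := fun δ => ⟨ρ (dg t (f δ δ.2)), h1 _ (hf1 δ δ.2)⟩
    have hF : Function.Injective F := by
      intro δ δ' e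
      have e1 : ρ (dg t (f δ δ.2)) = ρ (dg t (f δ' δ'.2)) := congrArg Subtype.val e
      have m1 := hf1 δ δ.2
      have m2 := hf1 δ' δ'.2
      have m3 : (f δ δ.2)⁻¹ * f δ' δ'.2 ∈ B' := mul_mem (inv_mem m1) m2
      have e2 : ρ (dg t ((f δ δ.2)⁻¹ * f δ' δ'.2)) = 1 := by
        rw [w.mul (inv_mem m1) m2, w.inv m1, h.mul _ (inv_mem (hN _ m1)) _ (hN _ m2),
          h.inv (hN _ m1), e1, inv_mul_cancel]
      have e3 := h4 _ m3 ((h.ker _ (hN _ m3)).1 e2)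
      rw [m.mul _ (le_normalizer (inv_mem m1)) _ (le_normalizer m2), m.inv (le_normalizer m1),
        hf2, hf2] at e3
      exact Subtype.ext (inv_mul_eq_one.1 e3)
    obtain ⟨δ, hδ⟩ := Finite.surjective_of_injective hF ⟨γ, hγ⟩
    exact ⟨_, h3 _ (hf1 δ δ.2), w.mem_range.2 ⟨_, hf1 δ δ.2, rfl⟩, congrArg Subtype.val hδ⟩
  have h6 : y ∈ Cs (A ⊓ C1 (dg t y)) := by
    refine mem_Cs.2 fun n hn => ?_
    obtain ⟨x, hx, rfl⟩ := w.mem_range.1 (h5 hn.1)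
    have hxy : x * y * x⁻¹ ∈ B' := mul_mem (mul_mem hx hy) (inv_mem hx)
    have e1 : dg t (x * y * x⁻¹) = dg t y := by
      rw [w.conjm hx hy, (mem_C1.1 hn.2).eq, mul_inv_cancel_right]
    have e2 : dg t ((x * y * x⁻¹)⁻¹ * y) = 1 := by
      rw [w.mul (inv_mem hxy) hy, w.inv hxy, e1, inv_mul_cancel]
    have e3 := (m.ker _ (le_normalizer (mul_mem (inv_mem hxy) hy))).2
      (w.cent (mul_mem (inv_mem hxy) hy) e2)
    rw [m.mul _ (le_normalizer (inv_mem hxy)) _ (le_normalizer hy), m.inv (le_normalizer hxy)] at e3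
    have e4 : x * y * x⁻¹ = y := by
      refine m.eq_of_two hxy hy (k := 1) (l := 1) ?_ (by rw [pow_one, pow_two, y2])
        (inv_mul_eq_one.1 e3)
      rw [pow_one, conj_pow, pow_two, y2, mul_one, mul_inv_cancel]
    have e5 := w.act hx hy
    rw [e4] at e5
    show y * dg t x = dg t x * y
    calc y * dg t x = dg t x * y * (dg t x)⁻¹ * dg t x := by rw [e5]
      _ = dg t x * y := by group
  have hAB : A ≤ Ns B := by
    intro a ha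
    obtain ⟨x, hx, rfl⟩ := D.onto a ha
    exact w0.memN hx
  have fin : ∀ J : Subgroup G, A ≤ Ns J → y ∈ J → B' ≤ J := by
    intro J hJ hyJ
    have : B' ≤ B' ⊓ J := by
      refine m.le_of_normal b (fun g hg => ?_) hy ⟨hy, hyJ⟩ y1
      refine mem_normalizer_of_cj_le (cj_le_iff.2 fun u hu => ?_)
      refine ⟨B'.mul_mem (B'.mul_mem hg hu.1) (B'.inv_mem hg), ?_⟩
      rw [← w.act hg hu.1]
      exact mem_normalizer_conj (hJ (h3 g hg)) hu.2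
    exact this.trans inf_le_right
  rcases D.uniq y _ (h3 y hy) ha1 y2 (w.ytyt hy) h6 with e | e
  · exact Or.inl (fin B hAB e)
  · refine Or.inr (fin _ (fun a ha => ?_) e)
    rw [← StdJ4.cj_Ns, mem_cj, conj_eq_of_mem_centralizer' s.tA ha]
    exact hAB ha

/-- StdG/EndA.lean: `t` swaps only one pair -/
theorem swap_eq (b : Base Γ Γ0 T z) (h : Mdl Γ Γ0 A ρ) (s : St A O t) (D : Dbl A O B t) (g : G)
    (m : Mdl Γ Γ0 B ρ') (hc : cj g B ≤ Cs (cj t (cj g B))) : cj g B = B ∨ cj g B = cj t B := by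
  rcases swap_aux b h s D (m.cjg g) hc with e | e
  · exact Or.inl (Solv.PG.eq_of_le_of_card_eq e (card_cj g B))
  · exact Or.inr (Solv.PG.eq_of_le_of_card_eq e (by rw [card_cj, card_cj]))

end Cfsg.Lib.StdG
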