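import Cfsg.Agent.StdG.EndB
import Cfsg.Agent.Comp.Tools

/-!
# Standard subgroups with one class of involutions: no outer involutions centralise `t`
-/

set_option autoImplicit false

namespace Cfsg.Lib.StdG

open Subgroup Cfsg.Lib.Gold Cfsg.Lib.Trans Cfsg.Lib.StdSz
open scoped commutatorElement

variable {G Ω : Type*} [Group G] [Group Ω] {Γ Γ0 T : Subgroup Ω} {z : Ω}
  {A O B : Subgroup G} {ρ ρ' : G → Ω} {t : G}

/-- the elements inducing inner automorphisms on `B` -/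
def Inn (B : Subgroup G) : Subgroup G := B ⊔ Cs B

theorem mem_Inn {x : G} : x ∈ Inn B ↔ ∃ a ∈ B, a⁻¹ * x ∈ Cs B := by
  rw [Inn, Solv.Coprime.mem_sup_iff (StdJ4.Cs_le_Ns B)]
  constructor
  · rintro ⟨a, ha, c, hc, rfl⟩
    exact ⟨a, ha, by simpa using hc⟩
  · rintro ⟨a, ha, hc⟩
    exact ⟨a, ha, _, hc, by group⟩

theorem le_Inn : B ≤ Inn B := le_sup_left

theorem Cs_le_Inn : Cs B ≤ Inn B := le_sup_right

theorem Inn_le : Inn B ≤ Ns B := sup_le le_normalizer (StdJ4.Cs_le_Ns B)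

theorem cj_Inn (g : G) (B : Subgroup G) : cj g (Inn B) = Inn (cj g B) := by
  rw [Inn, cj_sup, StdJ4.cj_Cs, Inn]

theorem Mdl.inn (m : Mdl Γ Γ0 B ρ') {x : G} (hx : x ∈ Ns B) : ρ' x ∈ Γ0 ↔ x ∈ Inn B :=
  (m.inner hx).trans mem_Inn.symm

theorem Mdl.idx (m : Mdl Γ Γ0 B ρ') (b : Base Γ Γ0 T z) :
    ∀ x ∈ Ns B, ∀ y ∈ Ns B, x ∉ Inn B → y ∉ Inn B → x * y ∈ Inn B := fun x hx y hy h1 h2 => by
  rw [← m.inn (mul_mem hx hy), m.mul x hx y hy]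
  exact b.idx _ (m.memΓ x hx) _ (m.memΓ y hy) (fun e => h1 ((m.inn hx).1 e))
    fun e => h2 ((m.inn hy).1 e)

/-- elements inner on both members of a commuting pair -/
theorem dec_Inn {B B' : Subgroup G} (hc : B ≤ Cs B') {x : G} (h1 : x ∈ Inn B) (h2 : x ∈ Inn B') :
    ∃ a ∈ B, ∃ a' ∈ B', ∃ c ∈ Cs B ⊓ Cs B', x = a * a' * c := by
  obtain ⟨a, ha, hc1⟩ := mem_Inn.1 h1
  obtain ⟨a', ha', hc2⟩ := mem_Inn.1 (mul_mem (inv_mem (Cs_le_Inn (hc ha))) h2)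
  refine ⟨a, ha, a', ha', a'⁻¹ * (a⁻¹ * x), mem_inf.2 ⟨mul_mem (inv_mem ?_) hc1, hc2⟩, by group⟩
  exact StdJ4.mem_Cs.2 fun y hy => (StdJ4.mem_Cs.1 (hc hy) a' ha').symm

theorem mem_cj_t (ht : t * t = 1) {Y : Subgroup G} {x : G} : x ∈ cj t Y ↔ t * x * t⁻¹ ∈ Y := by
  rw [mem_cj, StdJ4.inv_of_sq ht]

/-- Thompson's transfer lemma for an abelian quotient, inside a perfect subgroup -/
theorem thompson_ab [Finite G] {K R C : Subgroup G} (hK : ⁅K, K⁆ = K) (hR : IsSylowIn 2 R K)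
    (hab : ∀ x ∈ R, ∀ y ∈ R, ⁅x, y⁆ ∈ C)
    (hC : ∀ x ∈ R, ∀ y ∈ R, x * x = 1 → y * y = 1 → x ∉ C → y ∉ C → x * y ∈ C) {y : G}
    (hy : y ∈ K) (h2 : y * y = 1) (h1 : y ≠ 1) : ∃ k ∈ K, k * y * k⁻¹ ∈ C := by
  have sq : ∀ u : K, orderOf u = 2 → (u : G) * u = 1 := fun u hu => by
    have := pow_orderOf_eq_one u
    rw [hu, pow_two] at this
    exact congrArg Subtype.val this
  obtain ⟨a, -, hb, -⟩ := thompson_transfer_involution (G := K) (H := R.subgroupOf K)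
    (T := C.subgroupOf K) hR.not_dvd (fun x hx y hy => hab x hx y hy)
    (fun x hx => by
      obtain ⟨k, hk⟩ := Comp.Tw.of_mem hR.isPGroup (mem_subgroupOf.1 hx)
      exact ⟨k, by rw [mem_subgroupOf, Subgroup.coe_pow, hk]; exact one_mem _⟩)
    ⟨y, hy⟩ (by rw [orderOf_mk]; exact Tl.orderOf_eq_two h2 h1)
    (fun u hu v hv h5 h6 h3 h4 => hC u hu v hv (sq u h5) (sq v h6) h3 h4)
    (mem_sup_left (by rw [Comp.commutator_top_of_perfect hK]; exact mem_top _)) ⊥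
    IsPGroup.of_bot (fun r hr => by rw [mem_bot.1 hr, one_mul, mul_one])
  exact ⟨a⁻¹, inv_mem a.2, by simpa [mem_subgroupOf] using hb⟩

theorem perfect_of_simple (b : Base Γ Γ0 T z) (h : Mdl Γ Γ0 A ρ) {X : Subgroup G} [IsSimpleGroup X]
    (hAX : A ≤ X) : ⁅X, X⁆ = X := by
  rcases (inferInstance : (_root_.commutator X).Normal).eq_bot_or_eq_top with e | e
  · exfalso
    obtain ⟨a, ha, e1⟩ := h.surj z (b.T0 b.zT)
    have h3 : ⁅X, X⁆ = ⊥ := by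
      have := congrArg (map X.subtype) e
      rwa [_root_.commutator_def, map_commutator, ← MonoidHom.range_eq_map, range_subtype,
        Subgroup.map_bot] at this
    have h4 : a ∈ ⁅X, X⁆ := commutator_mono hAX hAX (h.perf ha)
    rw [h3, mem_bot] at h4
    exact b.z1 (by rw [← e1, h4, h.one])
  · have := congrArg (map X.subtype) e
    rwa [_root_.commutator_def, map_commutator, ← MonoidHom.range_eq_map, range_subtype] at this

/-- an element of the stabiliser of the pair -/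
theorem MM_cases (ht : t * t = 1) {x : G} (hx : x ∈ MM B (cj t B)) :
    x ∈ Ns B ⊓ Ns (cj t B) ∨ x * t ∈ Ns B ⊓ Ns (cj t B) := by
  rcases hx with ⟨h1, h2⟩ | ⟨h1, h2⟩
  · exact Or.inl ⟨mem_Ns_iff.2 h1, mem_Ns_iff.2 h2⟩
  · refine Or.inr ⟨mem_Ns_iff.2 ?_, mem_Ns_iff.2 ?_⟩
    · rw [cj_mul, h2]
    · rw [cj_mul, StdJ4.cj_cj_self ht, h1]

theorem conj_t_N (ht : t * t = 1) {x : G} (hx : x ∈ Ns B ⊓ Ns (cj t B)) :
    t * x * t⁻¹ ∈ Ns B ⊓ Ns (cj t B) := by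
  refine mem_inf.2 ⟨?_, ?_⟩
  · rw [← mem_cj_t ht, StdJ4.cj_Ns]; exact hx.2
  · rw [← StdJ4.cj_Ns, conj_mem_cj]; exact hx.1

theorem conj_t_I (ht : t * t = 1) {x : G} : t * x * t⁻¹ ∈ Inn B ↔ x ∈ Inn (cj t B) := by
  rw [← cj_Inn, mem_cj_t ht]

theorem conj_t_C (ht : t * t = 1) {x : G} (hx : x ∈ Cs B ⊓ Cs (cj t B)) :
    t * x * t⁻¹ ∈ Cs B ⊓ Cs (cj t B) := by
  refine mem_inf.2 ⟨?_, ?_⟩
  · rw [← mem_cj_t ht, StdJ4.cj_Cs]; exact hx.2
  · rw [← StdJ4.cj_Cs, conj_mem_cj]; exact hx.1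

/-- the image of `R` in the dihedral group of order eight is abelian -/
theorem z4 {N I J X R : Subgroup G} {u : G} (tt : t * t = 1)
    (iI : ∀ x ∈ N, ∀ y ∈ N, x ∉ I → y ∉ I → x * y ∈ I)
    (iJ : ∀ x ∈ N, ∀ y ∈ N, x ∉ J → y ∉ J → x * y ∈ J) (hN : ∀ x ∈ N, t * x * t⁻¹ ∈ N)
    (hI : ∀ x, t * x * t⁻¹ ∈ I ↔ x ∈ J) (hR : ∀ x ∈ R, x ∈ X ∧ (x ∈ N ∨ x * t ∈ N))
    (al : ∀ x ∈ X, x * t ∈ I → x * t ∈ J → False) (uX : u ∈ X) (uN : u ∈ N) (uI : u ∉ I)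
    (uJ : u ∉ J) : (∀ x ∈ R, ∀ y ∈ R, ⁅x, y⁆ ∈ N ⊓ I) ∧
      ∀ x ∈ R, ∀ y ∈ R, x * x = 1 → y * y = 1 → x ∉ N ⊓ I → y ∉ N ⊓ I → x * y ∈ N ⊓ I := by
  have i1 := fun {x y : G} (hx : x ∈ N) (hy : y ∈ N) => Comp.mul_mem_iff_of_idx iI hx hy
  have i2 := fun {x y : G} (hx : x ∈ N) (hy : y ∈ N) => Comp.mul_mem_iff_of_idx iJ hx hy
  have ga : ∀ x ∈ X, x * t ∈ N → (x * t ∈ I ↔ x * t ∉ J) := by
    intro x hx h3
    refine ⟨fun h4 h5 => al x hx h4 h5, fun h4 => ?_⟩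
    by_contra h5
    refine al _ (mul_mem uX hx) ?_ ?_ <;> rw [mul_assoc]
    · exact iI _ uN _ h3 uI h5
    · exact iJ _ uN _ h3 uJ h4
  have de : ∀ r ∈ X, r * t ∈ N → ∀ x ∈ X, x ∈ N → (x ∈ I ↔ x ∈ J) := by
    intro r hr h3 x hx h4
    have h5 := ga r hr h3
    have h6 := ga (x * r) (mul_mem hx hr) (by rw [mul_assoc]; exact mul_mem h4 h3)
    rw [mul_assoc, i1 h4 h3, i2 h4 h3] at h6
    exact (by tauto : ∀ a b c d : Prop, (c ↔ ¬ d) → ((a ↔ c) ↔ ¬ (b ↔ d)) → (a ↔ b)) _ _ _ _ h5 h6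
  have mix : ∀ x ∈ X, ∀ y ∈ X, x ∈ N → y * t ∈ N → ⁅x, y⁆ ∈ N ⊓ I := by
    intro x hx y hy h3 h4
    have e : ⁅x, y⁆ = x * (y * t * (t * x⁻¹ * t⁻¹) * (y * t)⁻¹) := by
      rw [show y * t * (t * x⁻¹ * t⁻¹) * (y * t)⁻¹ = y * (t * t) * x⁻¹ * (t * t)⁻¹ * y⁻¹ by group, tt,
        commutatorElement_def]
      group
    have h5 := hN _ (inv_mem h3)
    have h6 := mul_mem (mul_mem h4 h5) (inv_mem h4)
    rw [e, mem_inf, i1 h3 h6, Comp.conj_mem_iff_of_idx iI h4 h5, hI, inv_mem_iff]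
    exact ⟨mul_mem h3 h6, de y hy h4 x hx h3⟩
  refine ⟨fun x hx y hy => ?_, fun x hx y hy x2 y2 h4 h5 => ?_⟩
  · obtain ⟨hx, h4 | h4⟩ := hR x hx <;> obtain ⟨hy, h5 | h5⟩ := hR y hy
    · exact mem_inf.2 ⟨mul_mem (mul_mem (mul_mem h4 h5) (inv_mem h4)) (inv_mem h5),
        Comp.comm_mem_of_idx iI h4 h5⟩
    · exact mix x hx y hy h4 h5
    · rw [← commutatorElement_inv]; exact inv_mem (mix y hy x hx h5 h4)
    · have e : ⁅x, y⁆ = x * t * (t * (y * t) * t⁻¹) * (t * (x * t)⁻¹ * t⁻¹) * (y * t)⁻¹ := by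
        rw [show x * t * (t * (y * t) * t⁻¹) * (t * (x * t)⁻¹ * t⁻¹) * (y * t)⁻¹ =
          x * (t * t) * y * x⁻¹ * (t * t)⁻¹ * y⁻¹ by group, tt, commutatorElement_def]
        group
      have h6 := hN _ h5
      have h7 := hN _ (inv_mem h4)
      have h8 := mul_mem h4 h6
      have h9 := mul_mem h8 h7
      rw [e, mem_inf, i1 h9 (inv_mem h5), i1 h8 h7, i1 h4 h6, hI, hI, inv_mem_iff, inv_mem_iff]
      exact ⟨mul_mem h9 (inv_mem h5), (by tauto : ∀ a b c d : Prop, (a ↔ ¬ b) → (c ↔ ¬ d) →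
        (((a ↔ d) ↔ b) ↔ c)) _ _ _ _ (ga x hx h4) (ga y hy h5)⟩
  · have key : ∀ x ∈ R, x * x = 1 → x ∈ N := by
      intro x hx x2
      refine (hR x hx).2.resolve_right fun h6 => ?_
      have h7 : x * t * (t * (x * t) * t⁻¹) ∈ I := by
        rw [show x * t * (t * (x * t) * t⁻¹) = x * (t * t) * x by group, tt, mul_one, x2]
        exact one_mem _
      rw [i1 h6 (hN _ h6), hI] at h7
      exact iff_not_self (h7.symm.trans (ga x (hR x hx).1 h6))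
    have h6 := key x hx x2
    have h7 := key y hy y2
    exact ⟨mul_mem h6 h7, iI x h6 y h7 (fun e => h4 ⟨h6, e⟩) fun e => h5 ⟨h7, e⟩⟩

theorem cj_le_nrm {X Q : Subgroup G} [X.Normal] (h : Q ≤ X) (g : G) : cj g Q ≤ X :=
  (cj_mono g h).trans (cj_eq_of_normal g X).le

/-- a Sylow subgroup of `G` containing `t` -/
theorem exists_syl_t (ht : t * t = 1) : ∃ P : Sylow 2 G, t ∈ (P : Subgroup G) := by
  obtain ⟨P, hP⟩ := (two_zpowers (x := t) (k := 1) (by simpa [pow_two] using ht)).exists_le_sylow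
  exact ⟨P, hP (mem_zpowers t)⟩

variable [Finite G] [Finite Ω]

section EndB

variable (b : Base Γ Γ0 T z) (o : Out Γ Γ0) (h : Mdl Γ Γ0 A ρ) (s : St A O t) (D : Dbl A O B t)
  (m : Mdl Γ Γ0 B ρ')
include b o h s D m

variable {X : Subgroup G} [X.Normal] [IsSimpleGroup X] (hAX : A ≤ X)
include hAX

theorem B2_le : cj t B ≤ X :=
  cj_le_nrm (B_le b o h s D m hAX) t

theorem low_conj {u k : G} (hu : u ∈ X) (h2 : u * u = 1) (hk : k ∈ X)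
    (h3 : k * u * k⁻¹ ∈ Ns B ⊓ Ns (cj t B)) : ∃ R ≤ X ⊓ C1 u, IsPGroup 2 R ∧ 128 ≤ Nat.card R ∧
      (k * u * k⁻¹ ∈ Inn B → 512 ≤ Nat.card R) := by
  obtain ⟨Q, hQ, h4, h5, h6⟩ := low_bound b o m (m.cjg t) D.comm
    (y := k * u * k⁻¹) (by rw [show k * u * k⁻¹ * (k * u * k⁻¹) = k * (u * u) * k⁻¹ by group, h2]; group)
    h3.1 h3.2
  have hy : k * u * k⁻¹ ∈ X := mul_mem (mul_mem hk hu) (inv_mem hk)
  refine ⟨cj k⁻¹ Q, le_inf (cj_le_nrm (hQ.trans (inf_le_left.trans (sup_le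
    (sup_le (B_le b o h s D m hAX) (B2_le b o h s D m hAX)) (zpowers_le_of_mem hy)))) _) ?_,
    isPGroup_cj h4 _, by rwa [card_cj], fun e => ?_⟩
  · have := cj_mono k⁻¹ (hQ.trans inf_le_right)
    rwa [Gold.cj_C1, show k⁻¹ * (k * u * k⁻¹) * k⁻¹⁻¹ = u by group] at this
  · rw [card_cj]; exact h6 ((m.inn h3.1).2 e)

theorem alpha {x : G} (hx : x ∈ X) (h1 : x * t ∈ Inn B) (h2 : x * t ∈ Inn (cj t B)) : False := by
  obtain ⟨a, ha, a', ha', c, hc, e⟩ := dec_Inn D.comm h1 h2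
  refine t_not_mem b o h s D m hAX hc ?_
  have e2 : c * t = a'⁻¹ * (a⁻¹ * x) := by
    calc c * t = a'⁻¹ * (a⁻¹ * (a * a' * c * t)) := by group
      _ = _ := by rw [← e, mul_assoc x, s.tt, mul_one]
  rw [e2]
  exact mul_mem (inv_mem (B2_le b o h s D m hAX ha')) (mul_mem (inv_mem (B_le b o h s D m hAX ha)) hx)

theorem no_outer {u : G} (hu : u ∈ X ⊓ C1 t) (h2 : u * u = 1) : ρ u ∈ Γ0 := by
  by_contra h0
  have h1 : u ≠ 1 := fun e => h0 (by rw [e, h.one]; exact one_mem _)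
  have tt := s.tt
  have ti := StdJ4.inv_of_sq tt
  obtain ⟨P, hP⟩ := exists_syl_t tt
  have hR := isSylowIn_inf_of_normal P X
  have hK := perfect_of_simple b h hAX
  have hM : ∀ x ∈ (P : Subgroup G) ⊓ X, x ∈ MM B (cj t B) := fun x hx =>
    two_le_MM b o h s D m P.isPGroup' hP hx.1
  by_cases hN : u ∈ Ns B
  swap
  · obtain ⟨k, hk, -, h3⟩ := Comp.thompson_in (C := Ns B ⊓ Ns (cj t B)) hK hR
      (fun x hx y hy h4 h5 => by
        have h6 := (MM_cases tt (hM x hx)).resolve_left h4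
        have h7 := (MM_cases tt (hM y hy)).resolve_left h5
        have := mul_mem h6 (conj_t_N tt h7)
        rwa [show x * t * (t * (y * t) * t⁻¹) = x * (t * t) * y by group, tt, mul_one] at this)
      hu.1 h2
    obtain ⟨R, hR1, hR2, -, hR3⟩ := low_conj b o h s D m hAX hu.1 h2 hk h3
    have := (up_bound b o h s D m hAX hu h2 h0 hR1 hR2).2.1 hN
    have ut : Commute u t := StdJ4.mem_C1.1 hu.2
    have w0 : u * t ∈ Ns B ⊓ Ns (cj t B) := (MM_cases tt (mem_MM b o h s D m (by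
      rw [ut.eq, mul_inv_cancel_right]; exact t_mem_MM tt))).resolve_left fun e => hN e.1
    have w1 : u * t ∈ Inn B ↔ u * t ∈ Inn (cj t B) := by
      rw [← conj_t_I tt, ← mul_assoc, ← ut.eq, mul_inv_cancel_right]
    have w2 : u * t ∉ Inn B := fun e => alpha b o h s D m hAX hu.1 e (w1.1 e)
    have w3 : ∀ x ∈ X, x ∈ Ns B ⊓ Ns (cj t B) → x ∉ Inn B → x ∈ Inn (cj t B) := fun x hx e1 e2 =>
      by_contra fun e3 => alpha b o h s D m hAX (mul_mem hx hu.1)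
        (by rw [mul_assoc]; exact m.idx b _ e1.1 _ w0.1 e2 w2)
        (by rw [mul_assoc]; exact (m.cjg t).idx b _ e1.2 _ w0.2 e3 fun e => w2 (w1.2 e))
    have w4 : k * u * k⁻¹ ∈ X := mul_mem (mul_mem hk hu.1) (inv_mem hk)
    have := hR3 (by_contra fun e => by
      generalize k * u * k⁻¹ = x at h3 w4 e
      have e1 := w3 x w4 h3 e
      have e2 := w3 _ (mul_mem w4 (Normal.conj_mem inferInstance _ w4 t)) (mul_mem h3 (conj_t_N tt h3))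
        fun e2 => e ((mul_mem_cancel_right ((conj_t_I tt).2 e1)).1 e2)
      rw [mul_mem_cancel_left e1, ← conj_t_I tt, show t * (t * x * t⁻¹) * t⁻¹ =
        t * t * x * (t * t)⁻¹ by group, tt] at e2
      exact e (by simpa using e2))
    omega
  have hut : t * u * t⁻¹ = u := by rw [← (StdJ4.mem_C1.1 hu.2).eq]; group
  have u1 : u ∉ Inn B := fun e =>
    (up_bound b o h s D m hAX hu h2 h0 bot_le IsPGroup.of_bot).2.2 hN ((m.inn hN).2 e)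
  have u2 : u ∉ Inn (cj t B) := by rwa [← conj_t_I tt, hut]
  have uN : u ∈ Ns (cj t B) := by rw [← StdJ4.cj_Ns, mem_cj_t tt, hut]; exact hN
  obtain ⟨z1, z2⟩ := z4 (N := Ns B ⊓ Ns (cj t B)) (R := (P : Subgroup G) ⊓ X) tt
    (fun x hx y hy => m.idx b x hx.1 y hy.1) (fun x hx y hy => (m.cjg t).idx b x hx.2 y hy.2)
    (fun x hx => conj_t_N tt hx) (fun x => conj_t_I tt) (fun x hx => ⟨hx.2, MM_cases tt (hM x hx)⟩)
    (fun x hx => alpha b o h s D m hAX hx) hu.1 ⟨hN, uN⟩ u1 u2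
  obtain ⟨k, hk, h3⟩ := thompson_ab hK hR z1 z2 hu.1 h2 h1
  obtain ⟨R, hR1, hR2, -, hR3⟩ := low_conj b o h s D m hAX hu.1 h2 hk h3.1
  have := (up_bound b o h s D m hAX hu h2 h0 hR1 hR2).1
  have := hR3 h3.2
  omega

end EndB

end Cfsg.Lib.StdG
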